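import Cfsg.Agent.Stn.Ext22b
import Cfsg.Agent.Golay.M24Order
import Cfsg.Agent.Golay.Simple

/-!
# Automorphism groups of Steiner systems
-/

set_option autoImplicit false

namespace Cfsg.Agent.Stn

open Finset Matrix Equiv

section basic
variable {α : Type*} [Fintype α] [DecidableEq α]

omit [Fintype α] in
open scoped Pointwise in
theorem smul_eq_map (g : Perm α) (X : Finset α) : g • X = X.map g.toEmbedding := by
  rw [map_eq_image]; rfl

omit [Fintype α] in
open scoped Pointwise in
theorem mem_aut {B : Set (Finset α)} {g : Perm α} : g ∈ setSystemAut B ↔ ∀ X : Finset α, X.map g.toEmbedding ∈ B ↔ X ∈ B := by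
  rw [MulAction.mem_stabilizer_set]
  simp only [smul_eq_map]

theorem mem_M24 {σ : Perm GolayPt} : σ ∈ M24 ↔ ∀ x : Finset GolayPt, x.map σ.toEmbedding ∈ fam golayCode ↔ x ∈ fam golayCode := by
  rw [mem_aut]
  simp only [mem_supports, mem_fam]

theorem mem_M24_of {σ : Perm GolayPt} (h : ∀ x ∈ fam golayCode, x.map σ.toEmbedding ∈ fam golayCode) : σ ∈ M24 := by
  rw [mem_M24]
  intro x
  refine ⟨?_, h x⟩
  intro hx
  have h1 : (fam golayCode).image (fun x => x.map σ.toEmbedding) = fam golayCode := by
    apply eq_of_subset_of_card_le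
    · intro y hy
      rw [mem_image] at hy
      obtain ⟨z, hz, rfl⟩ := hy
      exact h z hz
    · rw [card_image_of_injective _ (map_injective σ.toEmbedding)]
  rw [← h1, mem_image] at hx
  obtain ⟨z, hz, he⟩ := hx
  rwa [← map_injective σ.toEmbedding he]

theorem Fam.golay2 {S : Finset (Finset α)} (h : Fam S) {p q : α} (hpq : p ≠ q) :
    ∃ φ : α ≃ GolayPt, φ p = none ∧ φ q = some 0 ∧ ∀ x : Finset α, x ∈ S ↔ x.map φ.toEmbedding ∈ fam golayCode := by
  obtain ⟨φ, hp, hφ⟩ := h.unique golay_fam p none
  have h5 := Cfsg.Agent.Golay.M24_five_transitive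
  have h2 : MulAction.IsMultiplyPretransitive M24 GolayPt 2 :=
    MulAction.isMultiplyPretransitive_of_le (n := 5) (by norm_num) (by rw [Cfsg.Agent.Golay.natCard_golayPt]; norm_num)
  have hpq' : φ p ≠ φ q := fun e => hpq (φ.injective e)
  have h0 : (none : GolayPt) ≠ some 0 := by decide
  obtain ⟨g, hg1, hg2⟩ := (MulAction.is_two_pretransitive_iff.1 h2) hpq' h0
  refine ⟨φ.trans g.1, hg1, hg2, ?_⟩
  intro x
  rw [hφ, ← mem_M24.1 g.2 (x.map φ.toEmbedding), Finset.map_map]
  rfl

variable {p : GolayPt → Prop} [DecidablePred p] (f : α ≃ Subtype p)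

omit [Fintype α] [DecidableEq α] in
theorem exists_ext {σ : Perm GolayPt} (h : ∀ x, ¬ p x → σ x = x) : ∃ g : Perm α, Perm.extendDomainHom f g = σ := by
  have hp : ∀ x, p x ↔ p (σ x) := by
    intro x
    constructor
    · intro hx
      by_contra hn
      have h1 := h _ hn
      have h2 := σ.injective h1
      rw [h2] at hn
      exact hn hx
    · intro hx
      by_contra hn
      rw [h x hn] at hx
      exact hn hx
  refine ⟨(f.trans (σ.subtypePerm fun x => (hp x).symm)).trans f.symm, ?_⟩
  ext1 x
  show Perm.extendDomain _ f x = σ x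
  by_cases hx : p x
  · obtain ⟨a, ha⟩ := f.surjective ⟨x, hx⟩
    have : x = f a := by rw [ha]
    rw [this, Perm.extendDomain_apply_image]
    simp
  · rw [Perm.extendDomain_apply_not_subtype _ _ hx, h x hx]

omit [Fintype α] in
theorem pretrans {m k : ℕ} (hmk : m + k = 5) (out : Fin m → GolayPt) (hout : Function.Injective out)
    (hp : ∀ i, ¬ p (out i)) (hp' : ∀ x, ¬ p x → ∃ i, out i = x) (x y : Fin k ↪ α) :
    ∃ g : Perm α, Perm.extendDomainHom f g ∈ M24 ∧ ∀ i, g (x i) = y i := by
  have hinj : ∀ z : Fin k ↪ α, Function.Injective (Fin.append out (fun i => (f (z i)).1)) := by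
    intro z a b
    refine Fin.addCases (fun a => ?_) (fun a => ?_) a <;> refine Fin.addCases (fun b => ?_) (fun b => ?_) b
    · intro h; rw [Fin.append_left, Fin.append_left] at h; rw [hout h]
    · intro h; rw [Fin.append_left, Fin.append_right] at h
      exact absurd (h ▸ (f (z b)).2) (hp a)
    · intro h; rw [Fin.append_left, Fin.append_right] at h
      exact absurd (h ▸ (f (z a)).2) (hp b)
    · intro h; rw [Fin.append_right, Fin.append_right] at h
      rw [z.injective (f.injective (Subtype.ext h))]
  obtain ⟨σ, hσ, hmap⟩ := Cfsg.Agent.Golay.M24_exists_map (Fin.append out (fun i => (f (x i)).1) ∘ Fin.cast hmk.symm)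
    (Fin.append out (fun i => (f (y i)).1) ∘ Fin.cast hmk.symm) ((hinj x).comp (Fin.cast_injective _)) ((hinj y).comp (Fin.cast_injective _))
  have hmap' : ∀ j : Fin (m + k), σ (Fin.append out (fun i => (f (x i)).1) j) = Fin.append out (fun i => (f (y i)).1) j := by
    intro j
    have := hmap (Fin.cast hmk j)
    simpa using this
  obtain ⟨g, hg⟩ := exists_ext f (σ := σ) (by
    intro z hz
    obtain ⟨i, rfl⟩ := hp' z hz
    have := hmap' (Fin.castAdd k i)
    rwa [Fin.append_left, Fin.append_left] at this)
  refine ⟨g, by rw [hg]; exact hσ, ?_⟩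
  intro i
  have h1 := hmap' (Fin.natAdd m i)
  rw [Fin.append_right, Fin.append_right, ← hg] at h1
  have h2 : Perm.extendDomainHom f g (f (x i)).1 = (f (g (x i))).1 := Perm.extendDomain_apply_image g f (x i)
  rw [h2] at h1
  exact f.injective (Subtype.ext h1)

omit [Fintype α] [DecidableEq α] in
theorem ext_apply (g : Perm α) (a : α) : Perm.extendDomainHom f g (f a).1 = (f (g a)).1 := Perm.extendDomain_apply_image g f a

omit [Fintype α] [DecidableEq α] in
theorem ext_not (g : Perm α) {x : GolayPt} (hx : ¬ p x) : Perm.extendDomainHom f g x = x := Perm.extendDomain_apply_not_subtype g f hx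

end basic

section s24
variable {α : Type*} [Fintype α] [DecidableEq α] {B : Set (Finset α)} (hα : Fintype.card α = 24) (hB : IsSteinerSystem 5 8 B)
include hα hB

theorem aut5 : ∃ φ : α ≃ {_x : GolayPt // True}, ∀ g : Perm α, g ∈ setSystemAut B ↔ Perm.extendDomainHom φ g ∈ M24 := by
  obtain ⟨p⟩ : Nonempty α := Fintype.card_pos_iff.1 (by omega)
  obtain ⟨φ, -, hφ⟩ := (fam5 hα hB).unique golay_fam p none
  let f : α ≃ {_x : GolayPt // True} := φ.trans (Equiv.subtypeUnivEquiv (p := fun _ => True) (fun _ => trivial)).symm
  refine ⟨f, ?_⟩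
  intro g
  have hf : ∀ a, (f a).1 = φ a := fun _ => rfl
  have key : ∀ X : Finset α, (X.map φ.toEmbedding).map (Perm.extendDomainHom f g).toEmbedding = (X.map g.toEmbedding).map φ.toEmbedding := by
    intro X
    ext y
    simp only [Finset.mem_map_equiv]
    obtain ⟨a, rfl⟩ := φ.surjective y
    rw [Equiv.symm_apply_apply]
    obtain ⟨b, rfl⟩ := g.surjective a
    rw [Equiv.symm_apply_apply, ← hf (g b), ← ext_apply f g b, Equiv.symm_apply_apply, hf, Equiv.symm_apply_apply]
  constructor
  · intro hg
    apply mem_M24_of
    intro y hy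
    have hy' : y = (y.map φ.symm.toEmbedding).map φ.toEmbedding := by
      ext z; simp only [Finset.mem_map_equiv]; simp
    rw [hy', ← hφ, mem_fam] at hy
    rw [hy']
    apply spanC_ind (P := fun x => (x.map φ.toEmbedding).map (Perm.extendDomainHom f g).toEmbedding ∈ fam golayCode) _ _ _ hy
    · rw [map_empty, map_empty]; exact golay_fam.zero
    · intro b hb
      rw [key, ← hφ, mem_fam]
      exact ind_mem_spanC ((mem_aut.1 hg b).2 hb)
    · intro s t _ _ h1 h2
      rw [map_symm, map_symm]
      exact golay_fam.add _ h1 _ h2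
  · intro hg
    rw [mem_aut]
    intro X
    rw [block5_iff hα hB, block5_iff hα hB, card_map, ← mem_fam, ← mem_fam, hφ, hφ, ← key, mem_M24.1 hg]

end s24

section s23
variable {α : Type*} [Fintype α] [DecidableEq α] {B : Set (Finset α)} (hα : Fintype.card α = 23) (hB : IsSteinerSystem 4 7 B)
include hα hB

theorem aut4 : ∃ φ : α ≃ {x : GolayPt // x ≠ none}, ∀ g : Perm α, g ∈ setSystemAut B ↔ Perm.extendDomainHom φ g ∈ M24 := by
  obtain ⟨φ, hn, hφ⟩ := (fam4 hα hB).unique golay_fam none none
  have hne : ∀ a : α, φ (some a) ≠ none := fun a h => absurd (φ.injective (h.trans hn.symm)) (by simp)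
  have hbij : Function.Bijective (fun a : α => (⟨φ (some a), hne a⟩ : {x : GolayPt // x ≠ none})) := by
    constructor
    · intro a b hab
      have := congrArg Subtype.val hab
      exact Option.some_injective _ (φ.injective this)
    · rintro ⟨x, hx⟩
      obtain ⟨y, rfl⟩ := φ.surjective x
      rcases y with _ | y
      · exact absurd hn hx
      · exact ⟨y, rfl⟩
  let f : α ≃ {x : GolayPt // x ≠ none} := Equiv.ofBijective _ hbij
  refine ⟨f, ?_⟩
  intro g
  have hf : ∀ a, (f a).1 = φ (some a) := fun _ => rfl
  have hθn : Perm.extendDomainHom f g none = none := ext_not f g (by simp)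
  have key : ∀ X : Finset α, ((ext1 X).map φ.toEmbedding).map (Perm.extendDomainHom f g).toEmbedding = (ext1 (X.map g.toEmbedding)).map φ.toEmbedding := by
    intro X
    ext y
    simp only [Finset.mem_map_equiv]
    obtain ⟨a, rfl⟩ := φ.surjective y
    rw [Equiv.symm_apply_apply]
    rcases a with _ | a
    · rw [hn, (Equiv.symm_apply_eq _).2 hθn.symm, (Equiv.symm_apply_eq _).2 hn.symm]
      simp [ext1]
    · obtain ⟨b, rfl⟩ := g.surjective a
      rw [← hf (g b), ← ext_apply f g b, Equiv.symm_apply_apply, hf, Equiv.symm_apply_apply]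
      simp [ext1]
  constructor
  · intro hg
    apply mem_M24_of
    intro y hy
    have hy' : y = (y.map φ.symm.toEmbedding).map φ.toEmbedding := by
      ext z; simp only [Finset.mem_map_equiv]; simp
    rw [hy', ← hφ, mem_fam] at hy
    rw [hy']
    apply spanC_ind (P := fun x => (x.map φ.toEmbedding).map (Perm.extendDomainHom f g).toEmbedding ∈ fam golayCode) _ _ _ hy
    · rw [map_empty, map_empty]; exact golay_fam.zero
    · rintro _ ⟨b, hb, rfl⟩
      rw [key, ← hφ, mem_fam]
      exact ind_mem_spanC ⟨_, (mem_aut.1 hg b).2 hb, rfl⟩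
    · intro s t _ _ h1 h2
      rw [map_symm, map_symm]
      exact golay_fam.add _ h1 _ h2
  · intro hg
    rw [mem_aut]
    intro X
    rw [block4_iff hα hB, block4_iff hα hB, card_map, ← mem_fam, ← mem_fam, hφ, hφ, ← key, mem_M24.1 hg]

end s23

section s22
variable {α : Type*} [Fintype α] [DecidableEq α] {B : Set (Finset α)} (hα : Fintype.card α = 22) (hB : IsSteinerSystem 3 6 B)
include hα hB

theorem aut3 : ∃ φ : α ≃ {x : GolayPt // x ≠ none ∧ x ≠ some 0},
    (∀ g : Perm α, Perm.extendDomainHom φ g ∈ M24 → g ∈ setSystemAut B) ∧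
    (∀ g : Perm α, (swap none (some 0)) * Perm.extendDomainHom φ g ∈ M24 → g ∈ setSystemAut B) ∧
    (∀ g ∈ setSystemAut B, Perm.extendDomainHom φ g ∈ M24 ∨ (swap none (some 0)) * Perm.extendDomainHom φ g ∈ M24) ∧
    (∀ X : Finset α, X ∈ B ↔ X.card = 6 ∧ insert none (insert (some 0) (X.map (φ.toEmbedding.trans (Function.Embedding.subtype _)))) ∈ fam golayCode) := by
  obtain ⟨v, hv⟩ := (selfdual22 hα hB).2
  obtain ⟨φ, hn, hs, hφ⟩ := (fam3 hα hB hv).golay2 (p := none) (q := some none) (by simp)
  have hne : ∀ a : α, φ (some (some a)) ≠ none ∧ φ (some (some a)) ≠ some 0 := fun a =>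
    ⟨fun h => absurd (φ.injective (h.trans hn.symm)) (by simp), fun h => absurd (φ.injective (h.trans hs.symm)) (by simp)⟩
  have hbij : Function.Bijective (fun a : α => (⟨φ (some (some a)), hne a⟩ : {x : GolayPt // x ≠ none ∧ x ≠ some 0})) := by
    constructor
    · intro a b hab
      have := congrArg Subtype.val hab
      exact Option.some_injective _ (Option.some_injective _ (φ.injective this))
    · rintro ⟨x, hx⟩
      obtain ⟨y, rfl⟩ := φ.surjective x
      rcases y with _ | _ | y
      · exact absurd hn hx.1
      · exact absurd hs hx.2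
      · exact ⟨y, rfl⟩
  let f : α ≃ {x : GolayPt // x ≠ none ∧ x ≠ some 0} := Equiv.ofBijective _ hbij
  have hf : ∀ a, (f a).1 = φ (some (some a)) := fun _ => rfl
  have oc1 : ∀ g : Perm α, (Equiv.optionCongr (Equiv.optionCongr g)).symm none = none := fun _ => rfl
  have oc2 : ∀ g : Perm α, (Equiv.optionCongr (Equiv.optionCongr g)).symm (some none) = some none := fun _ => rfl
  have oc3 : ∀ (g : Perm α) a, (Equiv.optionCongr (Equiv.optionCongr g)).symm (some (some a)) = some (some (g.symm a)) := fun _ _ => rfl
  -- extension by the identity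
  have key : ∀ (g : Perm α) (x : Finset (Option (Option α))), (x.map φ.toEmbedding).map (Perm.extendDomainHom f g).toEmbedding =
      (x.map (Equiv.optionCongr (Equiv.optionCongr g)).toEmbedding).map φ.toEmbedding := by
    intro g x
    have hθn : Perm.extendDomainHom f g none = none := ext_not f g (by simp)
    have hθs : Perm.extendDomainHom f g (some 0) = some 0 := ext_not f g (by simp)
    ext y
    simp only [Finset.mem_map_equiv]
    obtain ⟨a, rfl⟩ := φ.surjective y
    rw [Equiv.symm_apply_apply]
    rcases a with _ | _ | a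
    · rw [hn, (Equiv.symm_apply_eq _).2 hθn.symm, (Equiv.symm_apply_eq _).2 hn.symm]
      rfl
    · rw [hs, (Equiv.symm_apply_eq _).2 hθs.symm, (Equiv.symm_apply_eq _).2 hs.symm]
      rfl
    · obtain ⟨b, rfl⟩ := g.surjective a
      rw [← hf (g b), ← ext_apply f g b, Equiv.symm_apply_apply, hf, Equiv.symm_apply_apply, oc3, Equiv.symm_apply_apply]
  have hext2 : ∀ (g : Perm α) (X : Finset α), (ext2 X).map (Equiv.optionCongr (Equiv.optionCongr g)).toEmbedding = ext2 (X.map g.toEmbedding) := by
    intro g X
    ext y
    rw [Finset.mem_map_equiv]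
    rcases y with _ | _ | y <;> simp [ext2, ext1, oc1, oc2, oc3]
  have hextV : ∀ (g : Perm α) (X : Finset α), (extV X).map (Equiv.optionCongr (Equiv.optionCongr g)).toEmbedding = extV (X.map g.toEmbedding) := by
    intro g X
    ext y
    rw [Finset.mem_map_equiv]
    rcases y with _ | _ | y <;> simp [extV, ext1, oc1, oc2, oc3]
  -- the swap
  have hswap : ∀ x : Finset (Option (Option α)), (x.map φ.toEmbedding).map (swap none (some 0)).toEmbedding =
      (x.map (swap none (some none)).toEmbedding).map φ.toEmbedding := by
    intro x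
    ext y
    simp only [Finset.mem_map_equiv, symm_swap]
    rw [← hn, ← hs]
    obtain ⟨a, rfl⟩ := φ.surjective y
    rw [← φ.injective.map_swap, Equiv.symm_apply_apply, Equiv.symm_apply_apply]
  have hsw2 : ∀ X : Finset α, (ext2 X).map (swap none (some none)).toEmbedding = ext2 X := by
    intro X
    ext y
    rw [Finset.mem_map_equiv, symm_swap]
    rcases y with _ | _ | y
    · rw [swap_apply_left]; simp [ext2, ext1]
    · rw [swap_apply_right]; simp [ext2, ext1]
    · rw [swap_apply_of_ne_of_ne (by simp) (by simp)]
  -- octads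
  have hblock : ∀ X : Finset α, X ∈ B ↔ (ext2 X).map φ.toEmbedding ∈ fam golayCode ∧ X.card = 6 := by
    intro X
    rw [block3_iff hα hB hv, ← mem_fam, hφ]
  refine ⟨f, ?_, ?_, ?_, ?_⟩
  · intro g hg
    rw [mem_aut]
    intro X
    rw [hblock, hblock, card_map, ← hext2, ← key, mem_M24.1 hg]
  · intro g hg
    rw [mem_aut]
    intro X
    rw [hblock, hblock, card_map, ← hext2, ← key]
    have h1 := mem_M24.1 hg ((ext2 X).map φ.toEmbedding)
    have h2 : ((ext2 X).map φ.toEmbedding).map ((swap none (some 0)) * Perm.extendDomainHom f g).toEmbedding =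
        ((ext2 X).map φ.toEmbedding).map (Perm.extendDomainHom f g).toEmbedding := by
      have h3 : ((ext2 X).map φ.toEmbedding).map ((swap none (some 0)) * Perm.extendDomainHom f g).toEmbedding =
          (((ext2 X).map φ.toEmbedding).map (Perm.extendDomainHom f g).toEmbedding).map (swap none (some 0)).toEmbedding := by
        ext z; simp only [Finset.mem_map_equiv]; rfl
      rw [h3, key, hext2, hswap, hsw2]
    rw [h2] at h1
    rw [h1]
  · intro g hg
    have hy : ∀ b ∈ B, (b ∩ v.map g.toEmbedding).card % 2 = 1 := by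
      intro b hb
      have h1 : b.map g.symm.toEmbedding ∈ B := by
        rw [← mem_aut.1 hg]
        have : (b.map g.symm.toEmbedding).map g.toEmbedding = b := by
          ext z; simp only [Finset.mem_map_equiv]; simp
        rw [this]; exact hb
      have h2 := hv _ h1
      have h3 : b ∩ v.map g.toEmbedding = (b.map g.symm.toEmbedding ∩ v).map g.toEmbedding := by
        ext z; simp only [Finset.mem_map_equiv, mem_inter]; simp
      rw [h3, card_map]; exact h2
    set y := v.map g.toEmbedding with hyd
    -- reduction
    have red : ∀ τ : Perm (Option (Option α)), (∀ X : Finset α, (ext2 X).map τ.toEmbedding = ext2 X) →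
        ind ((extV y).map τ.toEmbedding) ∈ spanC (G22 B v) → ∀ τ' : Perm GolayPt,
        (∀ x : Finset (Option (Option α)), (x.map φ.toEmbedding).map τ'.toEmbedding = (x.map τ.toEmbedding).map φ.toEmbedding) →
        τ' * Perm.extendDomainHom f g ∈ M24 := by
      intro τ hτ2 hτV τ' hτ'
      apply mem_M24_of
      intro y hy
      have hy' : y = (y.map φ.symm.toEmbedding).map φ.toEmbedding := by
        ext z; simp only [Finset.mem_map_equiv]; simp
      rw [hy', ← hφ, mem_fam] at hy
      rw [hy']
      have hmul : ∀ x : Finset (Option (Option α)), (x.map φ.toEmbedding).map (τ' * Perm.extendDomainHom f g).toEmbedding =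
          ((x.map (Equiv.optionCongr (Equiv.optionCongr g)).toEmbedding).map τ.toEmbedding).map φ.toEmbedding := by
        intro x
        rw [← hτ', ← key]
        ext z; simp only [Finset.mem_map_equiv]; rfl
      apply spanC_ind (P := fun x => (x.map φ.toEmbedding).map (τ' * Perm.extendDomainHom f g).toEmbedding ∈ fam golayCode) _ _ _ hy
      · rw [map_empty, map_empty]; exact golay_fam.zero
      · rintro _ (⟨b, hb, rfl⟩ | hb)
        · rw [hmul, hext2, hτ2, ← hφ, mem_fam]
          exact ind_mem_spanC (Or.inl ⟨_, (mem_aut.1 hg b).2 hb, rfl⟩)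
        · rw [Set.mem_singleton_iff] at hb
          rw [hb, hmul, hextV, ← hφ, mem_fam]
          exact hτV
      · intro s t _ _ h1 h2
        rw [map_symm, map_symm]
        exact golay_fam.add _ h1 _ h2
    rcases Nat.mod_two_eq_zero_or_one (v ∩ y).card with h0 | h0
    · right
      apply red (swap none (some none)) hsw2 _ _ hswap
      have hlow : low ((extV y).map (swap none (some none)).toEmbedding) = y := by
        ext z
        simp only [low, mem_eraseNone, Finset.mem_map_equiv, symm_swap]
        rw [swap_apply_of_ne_of_ne (by simp) (by simp)]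
        simp [extV, ext1]
      have hnone : none ∉ ((extV y).map (swap none (some none)).toEmbedding) := by
        rw [Finset.mem_map_equiv, symm_swap, swap_apply_left]; exact some_extV y
      have hsome : some none ∈ ((extV y).map (swap none (some none)).toEmbedding) := by
        rw [Finset.mem_map_equiv, symm_swap, swap_apply_right]; exact none_extV y
      apply dual22 hα hB hv
      rw [mem_dual_span]
      rintro _ (⟨b, hb, rfl⟩ | hb)
      · rw [dot_ind_iff, ext2_inter_card, hlow, if_pos hsome, if_neg hnone]
        have := hy b hb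
        omega
      · rw [Set.mem_singleton_iff] at hb
        rw [hb, dot_ind_iff, extV_inter_card, hlow, if_neg hnone]
        omega
    · left
      have := red 1 (fun X => by
        ext z; rw [Finset.mem_map_equiv]; rfl) (by
        have : (extV y).map (1 : Perm (Option (Option α))).toEmbedding = extV y := by
          ext z; rw [Finset.mem_map_equiv]; rfl
        rw [this]
        apply dual22 hα hB hv
        rw [mem_dual_span]
        rintro _ (⟨b, hb, rfl⟩ | hb)
        · rw [dot_ind_iff, ext2_inter_card, low_extV, if_neg (some_extV y), if_pos (none_extV y)]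
          have := hy b hb
          omega
        · rw [Set.mem_singleton_iff] at hb
          rw [hb, dot_ind_iff, extV_inter_card, low_extV, if_pos (none_extV y)]
          omega) 1 (fun x => by
        ext z; simp only [Finset.mem_map_equiv]; rfl)
      rwa [one_mul] at this
  · intro X
    rw [hblock, and_comm]
    have : (ext2 X).map φ.toEmbedding = insert none (insert (some 0) (X.map (f.toEmbedding.trans (Function.Embedding.subtype _)))) := by
      ext z
      rw [Finset.mem_map_equiv]
      obtain ⟨a, rfl⟩ := φ.surjective z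
      rw [Equiv.symm_apply_apply, mem_insert, mem_insert, mem_map]
      rcases a with _ | _ | a
      · simp [ext2, ext1, hn]
      · simp [ext2, ext1, hs]
      · have h1 := (hne a).1
        have h2 := (hne a).2
        constructor
        · intro h
          right; right
          refine ⟨a, by simpa [ext2, ext1] using h, rfl⟩
        · rintro (h | h | ⟨b, hb, h⟩)
          · exact absurd h h1
          · exact absurd h h2
          · have h3 : φ (some (some b)) = φ (some (some a)) := h
            have h4 := Option.some_injective _ (Option.some_injective _ (φ.injective h3))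
            rw [h4] at hb
            simpa [ext2, ext1] using hb
    rw [this]

end s22

end Cfsg.Agent.Stn
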