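import Cfsg.Agent.Stn.Aut
import Cfsg.Prelude.Def_Sporadic

/-!
# Automorphism groups of Steiner systems: final statements
-/

set_option autoImplicit false

namespace Cfsg.Agent.Stn

open Finset Matrix Equiv

variable {α : Type*} [Fintype α] [DecidableEq α]

section
variable {p : GolayPt → Prop} [DecidablePred p] (f : α ≃ Subtype p) {Γ : Subgroup (Perm α)} {L : Subgroup ↥M24}

/-- comparison of a group of permutations with a subgroup of M24 -/
noncomputable def cmpEquiv (hΓ : ∀ g, g ∈ Γ ↔ Perm.extendDomainHom f g ∈ M24)
    (hL : ∀ σ : ↥M24, σ ∈ L ↔ ∀ x, ¬ p x → σ.1 x = x) : Γ ≃* L :=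
  MulEquiv.ofBijective
    ({ toFun := fun g => ⟨⟨Perm.extendDomainHom f g.1, (hΓ g.1).1 g.2⟩, (hL _).2 (fun _ hx => ext_not f g.1 hx)⟩
       map_one' := by
        apply Subtype.ext; apply Subtype.ext
        exact map_one (Perm.extendDomainHom f)
       map_mul' := by
        intro a b
        apply Subtype.ext; apply Subtype.ext
        exact map_mul (Perm.extendDomainHom f) a.1 b.1 } : Γ →* L)
    (by
      constructor
      · intro a b hab
        have h1 := congrArg (fun x : L => x.1.1) hab
        exact Subtype.ext (Perm.extendDomainHom_injective f h1)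
      · intro σ
        obtain ⟨g, hg⟩ := exists_ext f (σ := σ.1.1) ((hL σ.1).1 σ.2)
        refine ⟨⟨g, (hΓ g).2 (by rw [hg]; exact σ.1.2)⟩, ?_⟩
        apply Subtype.ext; apply Subtype.ext
        exact hg)
end

theorem isM24_of (Γ : Type*) [Group Γ] {Δ : Type*} [Group Δ] (e : Γ ≃* Δ) {n : ℕ} (h1 : IsSimpleGroup Δ) (h2 : Nat.card Δ = n) :
    IsSimpleGroup Γ ∧ Nat.card Γ = n := by
  refine ⟨?_, by rw [Nat.card_congr e.toEquiv, h2]⟩
  have : Nontrivial Γ := e.toEquiv.nontrivial
  exact IsSimpleGroup.isSimpleGroup_of_surjective e.symm.toMonoidHom e.symm.surjective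

theorem final5 (hα : Fintype.card α = 24) {B : Set (Finset α)} (hB : IsSteinerSystem 5 8 B) :
    IsM24 (setSystemAut B) ∧ MulAction.IsMultiplyPretransitive (setSystemAut B) α 5 := by
  obtain ⟨f, hf⟩ := aut5 hα hB
  constructor
  · have e : setSystemAut B ≃* (⊤ : Subgroup ↥M24) := cmpEquiv f hf (fun σ => by simp)
    have e2 := e.trans Subgroup.topEquiv
    exact isM24_of _ e2 Cfsg.Agent.Golay.simple_M24 Cfsg.Agent.Golay.card_M24
  · constructor
    intro x y
    obtain ⟨g, hg, hxy⟩ := pretrans f (m := 0) (k := 5) rfl Fin.elim0 (fun i => i.elim0) (fun i => i.elim0) (by simp) x y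
    refine ⟨⟨g, (hf g).2 hg⟩, ?_⟩
    ext i
    exact hxy i

theorem final4 (hα : Fintype.card α = 23) {B : Set (Finset α)} (hB : IsSteinerSystem 4 7 B) :
    IsM23 (setSystemAut B) ∧ MulAction.IsMultiplyPretransitive (setSystemAut B) α 4 := by
  obtain ⟨f, hf⟩ := aut4 hα hB
  constructor
  · have e : setSystemAut B ≃* (MulAction.stabilizer ↥M24 (none : GolayPt)) := cmpEquiv f hf (fun σ => by
      rw [MulAction.mem_stabilizer_iff]
      constructor
      · intro h x hx
        rw [not_not] at hx
        rw [hx]; exact h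
      · intro h; exact h none (by simp))
    exact isM24_of _ e (Cfsg.Agent.Golay.simple_stabilizer_M24 none) (Cfsg.Agent.Golay.card_stabilizer_M24 none)
  · constructor
    intro x y
    obtain ⟨g, hg, hxy⟩ := pretrans f (m := 1) (k := 4) rfl (fun _ => none) (fun i j _ => Subsingleton.elim _ _) (by simp)
      (fun x hx => ⟨0, (not_not.1 hx).symm⟩) x y
    refine ⟨⟨g, (hf g).2 hg⟩, ?_⟩
    ext i
    exact hxy i

theorem final3 (hα : Fintype.card α = 22) {B : Set (Finset α)} (hB : IsSteinerSystem 3 6 B) :
    Nat.card (setSystemAut B) = 887040 ∧ MulAction.IsMultiplyPretransitive (setSystemAut B) α 3 ∧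
      ∃ H : Subgroup (setSystemAut B), H.index = 2 ∧ IsM22 H := by
  obtain ⟨f, h1, h2, h3, -⟩ := aut3 hα hB
  set τ : Perm GolayPt := swap none (some 0) with hτ
  have hτ2 : τ * τ = 1 := swap_mul_self _ _
  -- the subgroup
  let H : Subgroup (setSystemAut B) := (Subgroup.comap (Perm.extendDomainHom f) M24).subgroupOf (setSystemAut B)
  have hH : ∀ g : setSystemAut B, g ∈ H ↔ Perm.extendDomainHom f g.1 ∈ M24 := fun g => Iff.rfl
  have hout : ∀ x : GolayPt, ¬ (x ≠ none ∧ x ≠ some 0) ↔ x = none ∨ x = some 0 := by
    intro x; tauto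
  have hcomm : ∀ g : Perm α, Perm.extendDomainHom f g * τ = τ * Perm.extendDomainHom f g := by
    intro g
    have e0 : Perm.extendDomainHom f g none = none := ext_not f g (by simp)
    have e1 : Perm.extendDomainHom f g (some 0) = some 0 := ext_not f g (by simp)
    ext1 x
    rw [Perm.mul_apply, Perm.mul_apply]
    have := (Perm.extendDomainHom f g).injective.map_swap none (some 0) x
    rw [this, e0, e1]
  -- τ is not in M24
  have hτM : τ ∉ M24 := by
    intro hmem
    have hO : ∃ O ∈ fam golayCode, O.card = 8 ∧ none ∈ O ∧ some 0 ∉ O := by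
      have hc5 : (univ.filter fun x : GolayPt => x ≠ some 0).card = 23 := by decide
      obtain ⟨D, hD, hD12, hpD⟩ := golay_fam.dodecad none
      -- a word containing none and not some 0
      by_cases h0 : some 0 ∈ D
      · obtain ⟨q, hq, hq1, hq2⟩ : ∃ q ∈ D, q ≠ none ∧ q ≠ some 0 := by
          by_contra hn
          push Not at hn
          have : D ⊆ {none, some 0} := by
            intro x hx
            rw [mem_insert, mem_singleton]
            by_cases hx0 : x = none
            · exact Or.inl hx0
            · exact Or.inr (hn x hx hx0)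
          have := card_le_card this
          rw [hD12] at this
          have := this.trans card_le_two
          omega
        obtain ⟨q', hq'⟩ : (Dᶜ).Nonempty := card_pos.1 (by rw [card_compl, golay_fam.pts, hD12]; norm_num)
        obtain ⟨c, hc, hcD, -⟩ := golay_fam.pair_word hD hD12 hpD hq hq1.symm (p := q') (mem_compl.1 hq')
        refine ⟨c, hc, (golay_fam.two_card hD hD12 hc (by rw [hcD, card_pair hq1.symm])).1, ?_, ?_⟩
        · have : none ∈ c ∩ D := by rw [hcD]; exact mem_insert_self _ _
          exact (mem_inter.1 this).1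
        · intro hs
          have : some 0 ∈ c ∩ D := mem_inter.2 ⟨hs, h0⟩
          rw [hcD, mem_insert, mem_singleton] at this
          rcases this with h | h
          · exact absurd h (by decide)
          · exact hq2 h.symm
      · obtain ⟨q, hq, hq1⟩ : ∃ q ∈ D, q ≠ none := by
          by_contra hn
          push Not at hn
          have : D ⊆ {none} := by
            intro x hx
            rw [mem_singleton]; exact hn x hx
          have := card_le_card this
          rw [hD12, card_singleton] at this
          omega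
        obtain ⟨q', hq', hq0⟩ : ∃ q' ∈ Dᶜ, q' ≠ some 0 := by
          by_contra hn
          push Not at hn
          have : Dᶜ ⊆ {some 0} := by
            intro x hx
            rw [mem_singleton]; exact hn x hx
          have := card_le_card this
          rw [card_compl, golay_fam.pts, hD12, card_singleton] at this
          omega
        obtain ⟨c, hc, hcD, -⟩ := golay_fam.pair_word hD hD12 hpD hq hq1.symm (p := q') (mem_compl.1 hq')
        by_cases hs : some 0 ∈ c
        · refine ⟨symmDiff c Dᶜ, golay_fam.add _ hc _ (golay_fam.compl_mem hD), ?_, ?_, ?_⟩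
          · have hcd : symmDiff c Dᶜ ∩ D = c ∩ D := by
              ext x; simp only [mem_inter, mem_symmDiff, mem_compl]; tauto
            exact (golay_fam.two_card hD hD12 (golay_fam.add _ hc _ (golay_fam.compl_mem hD)) (by rw [hcd, hcD, card_pair hq1.symm])).1
          · rw [mem_symmDiff, mem_compl, not_not]
            left
            have : none ∈ c ∩ D := by rw [hcD]; exact mem_insert_self _ _
            exact ⟨(mem_inter.1 this).1, hpD⟩
          · rw [mem_symmDiff, mem_compl]; tauto
        · refine ⟨c, hc, (golay_fam.two_card hD hD12 hc (by rw [hcD, card_pair hq1.symm])).1, ?_, hs⟩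
          have : none ∈ c ∩ D := by rw [hcD]; exact mem_insert_self _ _
          exact (mem_inter.1 this).1
    obtain ⟨O, hO, hO8, hn, hs⟩ := hO
    have h4 := (mem_M24.1 hmem O).2 hO
    have h5 : symmDiff O (O.map τ.toEmbedding) = {none, some 0} := by
      ext x
      rw [mem_symmDiff, Finset.mem_map_equiv, hτ, symm_swap, mem_insert, mem_singleton]
      by_cases hx : x = none
      · rw [hx, swap_apply_left]; simp [hn, hs]
      · by_cases hx' : x = some 0
        · rw [hx', swap_apply_right]; simp [hn, hs]
        · rw [swap_apply_of_ne_of_ne hx hx']; tauto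
    have h6 := golay_fam.add _ hO _ h4
    rw [h5] at h6
    have h7 := golay_fam.four _ h6
    rw [card_pair (by decide)] at h7
    omega
  -- an element swapping
  have hH22 : IsM22 H := by
    have hcomap : ∀ g, g ∈ Subgroup.comap (Perm.extendDomainHom f) M24 ↔ Perm.extendDomainHom f g ∈ M24 := fun g => Iff.rfl
    have e1 : Subgroup.comap (Perm.extendDomainHom f) M24 ≃* ↥(MulAction.stabilizer ↥M24 (none : GolayPt) ⊓ MulAction.stabilizer ↥M24 (some 0 : GolayPt)) :=
      cmpEquiv f hcomap (fun σ => by
        rw [Subgroup.mem_inf, MulAction.mem_stabilizer_iff, MulAction.mem_stabilizer_iff]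
        constructor
        · rintro ⟨ha, hb⟩ x hx
          rcases (hout x).1 hx with rfl | rfl
          · exact ha
          · exact hb
        · intro h; exact ⟨h none (by simp), h (some 0) (by simp)⟩)
    have e2 : H ≃* Subgroup.comap (Perm.extendDomainHom f) M24 := Subgroup.subgroupOfEquivOfLe (fun g hg => h1 g hg)
    exact isM24_of _ (e2.trans e1) (Cfsg.Agent.Golay.simple_stab2_M24 none (some 0) (by decide)) (Cfsg.Agent.Golay.card_stab2_M24 none (some 0) (by decide))
  have hidx : H.index = 2 := by
    -- swapping element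
    have h5 := Cfsg.Agent.Golay.M24_five_transitive
    have ht2 : MulAction.IsMultiplyPretransitive M24 GolayPt 2 :=
      MulAction.isMultiplyPretransitive_of_le (n := 5) (by norm_num) (by rw [Cfsg.Agent.Golay.natCard_golayPt]; norm_num)
    have h0 : (none : GolayPt) ≠ some 0 := by decide
    obtain ⟨σ, hσ1, hσ2⟩ := (MulAction.is_two_pretransitive_iff.1 ht2) h0 h0.symm
    have hσ1' : σ.1 none = some 0 := hσ1
    have hσ2' : σ.1 (some 0) = none := hσ2
    obtain ⟨s, hs⟩ := exists_ext f (σ := τ * σ.1) (by
      intro x hx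
      rcases (hout x).1 hx with rfl | rfl
      · rw [Perm.mul_apply, hσ1', hτ, swap_apply_right]
      · rw [Perm.mul_apply, hσ2', hτ, swap_apply_left])
    have hs' : τ * Perm.extendDomainHom f s = σ.1 := by rw [hs, ← mul_assoc, hτ2, one_mul]
    have hsM : τ * Perm.extendDomainHom f s ∈ M24 := by rw [hs']; exact σ.2
    have hsB := h2 s hsM
    rw [Subgroup.index_eq_two_iff]
    refine ⟨⟨s, hsB⟩, ?_⟩
    intro b
    rw [hH, hH]
    have hmul : Perm.extendDomainHom f (b * (⟨s, hsB⟩ : setSystemAut B)).1 = Perm.extendDomainHom f b.1 * Perm.extendDomainHom f s := map_mul _ _ _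
    rw [hmul]
    by_cases hb : Perm.extendDomainHom f b.1 ∈ M24
    · right
      refine ⟨hb, fun hbs => hτM ?_⟩
      have hsM' : Perm.extendDomainHom f s ∈ M24 := (Subgroup.mul_mem_cancel_left _ hb).1 hbs
      have := M24.mul_mem hsM (M24.inv_mem hsM')
      rwa [mul_assoc, mul_inv_cancel, mul_one] at this
    · left
      refine ⟨?_, hb⟩
      rcases h3 b.1 b.2 with h | h
      · exact absurd h hb
      · have := M24.mul_mem h hsM
        rw [mul_assoc, ← mul_assoc _ τ, hcomm, mul_assoc τ, ← mul_assoc τ τ, hτ2, one_mul] at this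
        exact this
  refine ⟨?_, ?_, H, hidx, hH22⟩
  · rw [← H.index_mul_card, hidx, hH22.2]
  · constructor
    intro x y
    obtain ⟨g, hg, hxy⟩ := pretrans f (m := 2) (k := 3) rfl ![none, some 0] (by decide) (by
      intro i; fin_cases i <;> simp) (by
      intro x hx
      rcases (hout x).1 hx with rfl | rfl
      · exact ⟨0, rfl⟩
      · exact ⟨1, rfl⟩) x y
    refine ⟨⟨g, h1 g hg⟩, ?_⟩
    ext i
    exact hxy i

end Cfsg.Agent.Stn
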