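import Mathlib

/-!
# Uniqueness of the biplane with 11 points
-/

set_option autoImplicit false

namespace Cfsg.Agent.Stn

open Finset

/-- first point of a pair -/
def prA : Fin 10 → Fin 5 := ![0, 0, 0, 0, 1, 1, 1, 2, 2, 3]
/-- second point of a pair -/
def prB : Fin 10 → Fin 5 := ![1, 2, 3, 4, 2, 3, 4, 3, 4, 4]

/-- first class of pentagons -/
def cls1 : Fin 6 → Fin 10 → Bool := ![
  ![false, false, true, true, true, false, true, true, false, false],
  ![false, true, false, true, true, true, false, false, false, true],
  ![false, true, true, false, false, true, true, false, true, false],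
  ![true, false, false, true, false, true, false, true, true, false],
  ![true, false, true, false, true, false, false, false, true, true],
  ![true, true, false, false, false, false, true, true, false, true]]

/-- second class of pentagons -/
def cls2 : Fin 6 → Fin 10 → Bool := ![
  ![false, false, true, true, true, true, false, false, true, false],
  ![false, true, false, true, false, true, true, true, false, false],
  ![false, true, true, false, true, false, true, false, false, true],
  ![true, false, false, true, true, false, false, true, false, true],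
  ![true, false, true, false, false, false, true, true, true, false],
  ![true, true, false, false, false, true, false, false, true, true]]

/-- incidence matrix from a class of pentagons -/
def incM (cls : Fin 6 → Fin 10 → Bool) (i j : Fin 11) : Bool :=
  Fin.cases (motive := fun _ => Bool) (Fin.addCases (motive := fun _ : Fin (5 + 6) => Bool) (fun _ => true) (fun _ => false) j)
    (fun k => Fin.addCases (motive := fun _ : Fin (5 + 6) => Bool) (fun a => decide (a = prA k) || decide (a = prB k)) (fun b => cls b k) j) i

theorem inc12 : ∀ i j : Fin 11, incM cls2 ((![0, 1, 5, 6, 7, 2, 3, 4, 8, 9, 10] : Fin 11 → Fin 11) i)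
    ((![1, 0, 2, 3, 4, 6, 7, 5, 9, 10, 8] : Fin 11 → Fin 11) j) = incM cls1 i j := by
  decide +kernel

/-- number of edges -/
def cnt (w : Fin 10 → Bool) : ℕ := (univ.filter fun k => w k).card

theorem pent : ∀ b0 b1 b2 b3 b4 b5 b6 b7 b8 b9 : Bool, cnt ![b0, b1, b2, b3, b4, b5, b6, b7, b8, b9] = 5 →
    (∀ a : Fin 5, cnt (fun k => (decide (a = prA k) || decide (a = prB k)) && (![b0, b1, b2, b3, b4, b5, b6, b7, b8, b9] : Fin 10 → Bool) k) = 2) →
    (∃ t, ![b0, b1, b2, b3, b4, b5, b6, b7, b8, b9] = cls1 t) ∨ (∃ t, ![b0, b1, b2, b3, b4, b5, b6, b7, b8, b9] = cls2 t) := by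
  decide +kernel

theorem pent' (w : Fin 10 → Bool) (h5 : cnt w = 5)
    (h2 : ∀ a : Fin 5, cnt (fun k => (decide (a = prA k) || decide (a = prB k)) && w k) = 2) :
    (∃ t, w = cls1 t) ∨ (∃ t, w = cls2 t) := by
  have e : w = ![w 0, w 1, w 2, w 3, w 4, w 5, w 6, w 7, w 8, w 9] := by
    funext i
    fin_cases i <;> rfl
  rw [e] at h5 h2 ⊢
  exact pent _ _ _ _ _ _ _ _ _ _ h5 h2

theorem pent12 : ∀ s t : Fin 6, cnt (fun k => cls1 s k && cls2 t k) ≠ 2 := by decide +kernel
theorem pent5 : ∀ t : Fin 6, cnt (cls1 t) = 5 ∧ cnt (cls2 t) = 5 := by decide +kernel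

theorem pr_inj : ∀ k l : Fin 10, (prA k = prA l ∨ prA k = prB l) → (prB k = prA l ∨ prB k = prB l) → k = l := by decide
theorem pr_ne : ∀ k : Fin 10, prA k ≠ prB k := by decide

section
variable {I J : Type*} [Fintype I] [Fintype J] [DecidableEq I] [DecidableEq J]

/-- transfer of a count along an enumeration of the rows with a zero first entry -/
theorem cnt_transfer (g : Fin 11 ≃ I) (P : I → Bool) (h0 : P (g 0) = false) :
    (univ.filter fun i => P i = true).card = cnt (fun k => P (g k.succ)) := by
  have h1 : (univ.filter fun i => P i = true) = ((univ.filter fun k : Fin 11 => P (g k) = true)).map g.toEmbedding := by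
    ext i
    simp only [mem_filter, mem_univ, true_and, mem_map, Equiv.coe_toEmbedding]
    constructor
    · intro h
      exact ⟨g.symm i, by simpa using h, by simp⟩
    · rintro ⟨k, hk, rfl⟩; exact hk
  rw [h1, card_map]
  have h2 : (univ.filter fun k : Fin 11 => P (g k) = true) = ((univ.filter fun k : Fin 10 => P (g k.succ) = true)).map (Fin.succEmb 10) := by
    ext i
    simp only [mem_filter, mem_univ, true_and, mem_map]
    constructor
    · intro h
      induction i using Fin.cases with
      | zero => rw [h0] at h; exact absurd h (by decide)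
      | succ k => exact ⟨k, h, rfl⟩
    · rintro ⟨k, hk, rfl⟩; exact hk
  rw [h2, card_map]
  rfl

theorem biplane_aux (M : I → J → Bool) (hI : Fintype.card I = 11) (hJ : Fintype.card J = 11)
    (row : ∀ i, (univ.filter fun j => M i j = true).card = 5)
    (col : ∀ j, (univ.filter fun i => M i j = true).card = 5)
    (rr : ∀ i i', i ≠ i' → (univ.filter fun j => (M i j && M i' j) = true).card = 2)
    (cc : ∀ j j', j ≠ j' → (univ.filter fun i => (M i j && M i j') = true).card = 2) :
    ∃ (g : Fin 11 ≃ I) (k : Fin 11 ≃ J), (∀ i j, M (g i) (k j) = incM cls1 i j) ∨ (∀ i j, M (g i) (k j) = incM cls2 i j) := by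
  obtain ⟨r0⟩ : Nonempty I := Fintype.card_pos_iff.1 (by omega)
  -- the points of the first row
  obtain ⟨p, hpinj, hp, hp'⟩ : ∃ p : Fin 5 → J, Function.Injective p ∧ (∀ a, M r0 (p a) = true) ∧ ∀ j, M r0 j = true → ∃ a, p a = j := by
    let e := (equivFinOfCardEq (row r0)).symm
    refine ⟨fun a => (e a).1, fun a b hab => e.injective (Subtype.ext hab), fun a => ?_, fun j hj => ?_⟩
    · have := (e a).2
      rw [mem_filter] at this
      exact this.2
    · exact ⟨e.symm ⟨j, mem_filter.2 ⟨mem_univ _, hj⟩⟩, by simp⟩
  -- the row of a pair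
  have hρ : ∀ k : Fin 10, ∃ i, i ≠ r0 ∧ M i (p (prA k)) = true ∧ M i (p (prB k)) = true := by
    intro k
    have h1 := cc (p (prA k)) (p (prB k)) (fun h => pr_ne k (hpinj h))
    obtain ⟨x, y, hxy, he⟩ := card_eq_two.1 h1
    have hx : x ∈ (univ.filter fun i => (M i (p (prA k)) && M i (p (prB k))) = true) := by rw [he]; exact mem_insert_self _ _
    have hy : y ∈ (univ.filter fun i => (M i (p (prA k)) && M i (p (prB k))) = true) := by rw [he]; exact mem_insert_of_mem (mem_singleton_self _)
    rw [mem_filter, Bool.and_eq_true] at hx hy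
    by_cases hx0 : x = r0
    · exact ⟨y, fun hy0 => hxy (hx0.trans hy0.symm), hy.2.1, hy.2.2⟩
    · exact ⟨x, hx0, hx.2.1, hx.2.2⟩
  choose ρ hρ0 hρa hρb using hρ
  have hρc : ∀ k c, M (ρ k) (p c) = true ↔ (c = prA k ∨ c = prB k) := by
    intro k c
    constructor
    · intro h
      by_contra hn
      rw [not_or] at hn
      have h1 := rr (ρ k) r0 (hρ0 k)
      have h2 : ({p (prA k), p (prB k), p c} : Finset J) ⊆ (univ.filter fun j => (M (ρ k) j && M r0 j) = true) := by
        intro j hj
        rw [mem_insert, mem_insert, mem_singleton] at hj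
        rw [mem_filter, Bool.and_eq_true]
        rcases hj with rfl | rfl | rfl
        · exact ⟨mem_univ _, hρa k, hp _⟩
        · exact ⟨mem_univ _, hρb k, hp _⟩
        · exact ⟨mem_univ _, h, hp _⟩
      have h3 := card_le_card h2
      rw [h1, card_insert_of_notMem, card_insert_of_notMem, card_singleton] at h3
      · omega
      · rw [mem_singleton]; exact fun h => hn.2 (hpinj h).symm
      · rw [mem_insert, mem_singleton, not_or]
        exact ⟨fun h => pr_ne k (hpinj h), fun h => hn.1 (hpinj h).symm⟩
    · rintro (rfl | rfl)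
      · exact hρa k
      · exact hρb k
  have hρinj : Function.Injective ρ := by
    intro k l hkl
    apply pr_inj k l
    · exact (hρc l _).1 (hkl ▸ hρa k)
    · exact (hρc l _).1 (hkl ▸ hρb k)
  let g0 : Fin 11 → I := Fin.cases r0 ρ
  have hg0 : Function.Bijective g0 := by
    rw [Fintype.bijective_iff_injective_and_card]
    refine ⟨?_, by rw [hI]; rfl⟩
    intro a b
    induction a using Fin.cases with
    | zero =>
      induction b using Fin.cases with
      | zero => intro _; rfl
      | succ b => intro h; exact absurd h.symm (hρ0 b)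
    | succ a =>
      induction b using Fin.cases with
      | zero => intro h; exact absurd h (hρ0 a)
      | succ b => intro h; exact congrArg Fin.succ (hρinj h)
  let g : Fin 11 ≃ I := Equiv.ofBijective g0 hg0
  have hgz : g 0 = r0 := rfl
  have hgs : ∀ k : Fin 10, g k.succ = ρ k := fun _ => rfl
  -- the pattern of an outer column
  have hw : ∀ x : J, M r0 x = false → (∃ t, (fun k => M (ρ k) x) = cls1 t) ∨ (∃ t, (fun k => M (ρ k) x) = cls2 t) := by
    intro x hx
    apply pent'
    · rw [← col x, cnt_transfer g (fun i => M i x) hx]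
      rfl
    · intro a
      have hne : p a ≠ x := by
        intro h; rw [← h, hp a] at hx; exact absurd hx (by decide)
      rw [← cc (p a) x hne, cnt_transfer g (fun i => M i (p a) && M i x)]
      · congr 1
        funext k
        rw [hgs]
        have : M (ρ k) (p a) = (decide (a = prA k) || decide (a = prB k)) := by
          rw [Bool.eq_iff_iff, hρc k a, Bool.or_eq_true, decide_eq_true_iff, decide_eq_true_iff]
        rw [this]
      · rw [hgz, hx, Bool.and_false]
  have hmeet : ∀ x y : J, M r0 x = false → x ≠ y → cnt (fun k => M (ρ k) x && M (ρ k) y) = 2 := by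
    intro x y hx hxy
    rw [← cc x y hxy, cnt_transfer g (fun i => M i x && M i y)]
    · rfl
    · rw [hgz, hx, Bool.false_and]
  -- outer columns
  have hcard : Fintype.card {x : J // M r0 x = false} = 6 := by
    have h1 := Fintype.card_subtype_compl (fun x : J => M r0 x = true)
    rw [Fintype.card_subtype (fun x : J => M r0 x = true), row r0, hJ] at h1
    rw [← Fintype.card_congr (Equiv.subtypeEquivRight (p := fun x : J => ¬ (M r0 x = true)) (q := fun x : J => M r0 x = false) (by simp))]
    convert h1
  -- all of one class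
  have finish : ∀ cls : Fin 6 → Fin 10 → Bool, (∀ t, cnt (cls t) = 5) →
      (∀ x : J, M r0 x = false → ∃ t, (fun k => M (ρ k) x) = cls t) →
      ∃ k : Fin 11 ≃ J, ∀ i j, M (g i) (k j) = incM cls i j := by
    intro cls h5 hall
    choose τ hτ using hall
    have hτinj : Function.Injective (fun x : {x : J // M r0 x = false} => τ x.1 x.2) := by
      rintro ⟨x, hx⟩ ⟨y, hy⟩ hxy
      by_contra hne
      have hne' : x ≠ y := fun h => hne (Subtype.ext h)
      have h1 := hmeet x y hx hne'
      have h2 : τ x hx = τ y hy := hxy
      have h3 : (fun k => M (ρ k) x && M (ρ k) y) = cls (τ x hx) := by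
        funext k
        have e1 := congrFun (hτ x hx) k
        have e2 := congrFun (hτ y hy) k
        rw [e1, e2, ← h2, Bool.and_self]
      rw [h3, h5] at h1
      omega
    have hτbij : Function.Bijective (fun x : {x : J // M r0 x = false} => τ x.1 x.2) := by
      rw [Fintype.bijective_iff_injective_and_card]
      exact ⟨hτinj, by rw [hcard]; rfl⟩
    let E := Equiv.ofBijective _ hτbij
    let q : Fin 6 → J := fun b => (E.symm b).1
    have hq0 : ∀ b, M r0 (q b) = false := fun b => (E.symm b).2
    have hqinj : Function.Injective q := fun a b hab => E.symm.injective (Subtype.ext hab)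
    have hqc : ∀ b k, M (ρ k) (q b) = cls b k := by
      intro b k
      have h1 := congrFun (hτ (q b) (hq0 b)) k
      have h2 : τ (q b) (hq0 b) = b := E.apply_symm_apply b
      rw [h2] at h1
      exact h1
    let k0 : Fin 11 → J := Fin.append p q
    have hk0a : ∀ a : Fin 5, k0 (Fin.castAdd 6 a) = p a := fun a => Fin.append_left p q a
    have hk0b : ∀ b : Fin 6, k0 (Fin.natAdd 5 b) = q b := fun b => Fin.append_right p q b
    have hk0 : Function.Bijective k0 := by
      rw [Fintype.bijective_iff_injective_and_card]
      refine ⟨?_, by rw [hJ]; rfl⟩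
      intro a b
      refine Fin.addCases (m := 5) (n := 6) (motive := fun a : Fin 11 => k0 a = k0 b → a = b) (fun a => ?_) (fun a => ?_) a <;>
      refine Fin.addCases (m := 5) (n := 6) (motive := fun b : Fin 11 => k0 _ = k0 b → _ = b) (fun b => ?_) (fun b => ?_) b
      · intro h; rw [hk0a, hk0a] at h; rw [hpinj h]
      · intro h; rw [hk0a, hk0b] at h
        have := hq0 b; rw [← h, hp a] at this; exact absurd this (by decide)
      · intro h; rw [hk0a, hk0b] at h
        have := hq0 a; rw [h, hp b] at this; exact absurd this (by decide)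
      · intro h; rw [hk0b, hk0b] at h; rw [hqinj h]
    refine ⟨Equiv.ofBijective k0 hk0, ?_⟩
    intro i j
    show M (g i) (k0 j) = _
    induction i using Fin.cases with
    | zero =>
      rw [hgz]
      refine Fin.addCases (m := 5) (n := 6) (motive := fun j : Fin 11 => M r0 (k0 j) = incM cls 0 j) (fun a => ?_) (fun a => ?_) j
      · rw [hk0a, hp]; simp only [incM, Fin.cases_zero]; rw [Fin.addCases_left]
      · rw [hk0b, hq0]; simp only [incM, Fin.cases_zero]; rw [Fin.addCases_right]
    | succ k =>
      rw [hgs]
      refine Fin.addCases (m := 5) (n := 6) (motive := fun j : Fin 11 => M (ρ k) (k0 j) = incM cls k.succ j) (fun a => ?_) (fun a => ?_) j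
      · rw [hk0a]; simp only [incM, Fin.cases_succ]; rw [Fin.addCases_left]
        rw [Bool.eq_iff_iff, hρc k a, Bool.or_eq_true, decide_eq_true_iff, decide_eq_true_iff]
      · rw [hk0b, hqc]; simp only [incM, Fin.cases_succ]; rw [Fin.addCases_right]
  by_cases h1 : ∀ x : J, M r0 x = false → ∃ t, (fun k => M (ρ k) x) = cls1 t
  · obtain ⟨k, hk⟩ := finish cls1 (fun t => (pent5 t).1) h1
    exact ⟨g, k, Or.inl hk⟩
  · push Not at h1
    obtain ⟨x, hx, hx1⟩ := h1
    have hx2 : ∃ t, (fun k => M (ρ k) x) = cls2 t := by
      rcases hw x hx with ⟨t, ht⟩ | h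
      · exact absurd ht (hx1 t)
      · exact h
    have h2 : ∀ y : J, M r0 y = false → ∃ t, (fun k => M (ρ k) y) = cls2 t := by
      intro y hy
      rcases hw y hy with ⟨t, ht⟩ | h
      · exfalso
        have hne : x ≠ y := by
          rintro rfl
          exact hx1 t ht
        obtain ⟨s, hs⟩ := hx2
        have h3 := hmeet y x hy hne.symm
        apply pent12 t s
        rw [← h3]
        congr 1
        funext k
        have e1 := congrFun ht k
        have e2 := congrFun hs k
        rw [e1, e2]
      · exact h
    obtain ⟨k, hk⟩ := finish cls2 (fun t => (pent5 t).2) h2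
    exact ⟨g, k, Or.inr hk⟩

theorem biplane (M : I → J → Bool) (hI : Fintype.card I = 11) (hJ : Fintype.card J = 11)
    (row : ∀ i, (univ.filter fun j => M i j = true).card = 5)
    (col : ∀ j, (univ.filter fun i => M i j = true).card = 5)
    (rr : ∀ i i', i ≠ i' → (univ.filter fun j => (M i j && M i' j) = true).card = 2)
    (cc : ∀ j j', j ≠ j' → (univ.filter fun i => (M i j && M i j') = true).card = 2) :
    ∃ (g : Fin 11 ≃ I) (k : Fin 11 ≃ J), ∀ i j, M (g i) (k j) = incM cls1 i j := by
  obtain ⟨g, k, h | h⟩ := biplane_aux M hI hJ row col rr cc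
  · exact ⟨g, k, h⟩
  · have hs : Function.Bijective (![0, 1, 5, 6, 7, 2, 3, 4, 8, 9, 10] : Fin 11 → Fin 11) :=
      Finite.injective_iff_bijective.1 (by decide)
    have ht : Function.Bijective (![1, 0, 2, 3, 4, 6, 7, 5, 9, 10, 8] : Fin 11 → Fin 11) :=
      Finite.injective_iff_bijective.1 (by decide)
    refine ⟨(Equiv.ofBijective _ hs).trans g, (Equiv.ofBijective _ ht).trans k, ?_⟩
    intro i j
    rw [← inc12 i j, ← h]
    rfl
end

end Cfsg.Agent.Stn
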