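import Cfsg.Agent.Stn.Frame
import Cfsg.Agent.Golay.Steiner

/-!
# Binary codes and families of sets
-/

set_option autoImplicit false

namespace Cfsg.Agent.Stn

open Finset Matrix

variable {α : Type*} [Fintype α] [DecidableEq α]

/-- indicator vector -/
def ind (s : Finset α) : α → ZMod 2 := fun a => if a ∈ s then 1 else 0

omit [Fintype α] in
theorem ind_apply (s : Finset α) (a : α) : ind s a = if a ∈ s then 1 else 0 := rfl

omit [Fintype α] in
theorem ind_symm (s t : Finset α) : ind (symmDiff s t) = ind s + ind t := by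
  funext a
  simp only [ind, Pi.add_apply, mem_symmDiff]
  by_cases h1 : a ∈ s <;> by_cases h2 : a ∈ t <;> simp [h1, h2]
  decide

omit [Fintype α] in
theorem ind_empty : ind (∅ : Finset α) = 0 := by
  funext a; simp [ind]

omit [Fintype α] in
theorem ind_inj {s t : Finset α} (h : ind s = ind t) : s = t := by
  ext a
  have := congrFun h a
  simp only [ind] at this
  by_cases h1 : a ∈ s <;> by_cases h2 : a ∈ t <;> simp_all

theorem ind_support (w : α → ZMod 2) : ind (support₂ w) = w := by
  funext a
  simp only [ind, support₂, mem_filter, mem_univ, true_and]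
  have : ∀ x : ZMod 2, (if x ≠ 0 then (1 : ZMod 2) else 0) = x := by decide
  exact this _

theorem support_ind (s : Finset α) : support₂ (ind s) = s := by
  apply ind_inj
  exact ind_support _

theorem dot_ind (s t : Finset α) : ind s ⬝ᵥ ind t = ((s ∩ t).card : ZMod 2) := by
  rw [dotProduct, card_eq_sum_ones, Nat.cast_sum]
  have : ∀ a, ind s a * ind t a = if a ∈ s ∩ t then 1 else 0 := by
    intro a
    simp only [ind, mem_inter]
    by_cases h1 : a ∈ s <;> by_cases h2 : a ∈ t <;> simp [h1, h2]
  rw [sum_congr rfl (fun a _ => this a), sum_ite_mem, univ_inter]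
  simp

theorem dot_ind_iff (s t : Finset α) : ind s ⬝ᵥ ind t = 0 ↔ 2 ∣ (s ∩ t).card := by
  rw [dot_ind, ZMod.natCast_eq_zero_iff]

theorem dot_ind_iff1 (s t : Finset α) : ind s ⬝ᵥ ind t = 1 ↔ ¬ 2 ∣ (s ∩ t).card := by
  rw [← dot_ind_iff]
  have : ∀ x : ZMod 2, x = 1 ↔ ¬ x = 0 := by decide
  exact this _

/-- family of supports -/
noncomputable def fam (C : Submodule (ZMod 2) (α → ZMod 2)) : Finset (Finset α) := by
  classical exact univ.filter fun s => ind s ∈ C

theorem mem_fam {C : Submodule (ZMod 2) (α → ZMod 2)} {s : Finset α} : s ∈ fam C ↔ ind s ∈ C := by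
  classical
  rw [fam, mem_filter]
  exact ⟨fun h => h.2, fun h => ⟨mem_univ _, h⟩⟩

theorem card_fam (C : Submodule (ZMod 2) (α → ZMod 2)) : (fam C).card = 2 ^ Module.finrank (ZMod 2) C := by
  have e : C ≃ {s // s ∈ fam C} :=
    { toFun := fun w => ⟨support₂ w.1, by rw [mem_fam, ind_support]; exact w.2⟩
      invFun := fun s => ⟨ind s.1, mem_fam.1 s.2⟩
      left_inv := fun w => Subtype.ext (ind_support w.1)
      right_inv := fun s => Subtype.ext (support_ind s.1) }
  have h1 := Nat.card_congr e
  have h2 : Nat.card {s // s ∈ fam C} = (fam C).card := by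
    rw [Nat.card_eq_fintype_card, Fintype.card_coe]
  rw [← h2, ← h1, Module.natCard_eq_pow_finrank (K := ZMod 2), Nat.card_zmod]

theorem mem_supports {C : Submodule (ZMod 2) (α → ZMod 2)} {s : Finset α} :
    s ∈ supports (C : Set (α → ZMod 2)) ↔ ind s ∈ C := by
  rw [supports, Set.mem_image]
  constructor
  · rintro ⟨w, hw, rfl⟩
    rw [ind_support]; exact hw
  · intro h
    exact ⟨_, h, support_ind s⟩

/-- dual code -/
noncomputable def dualC (C : Submodule (ZMod 2) (α → ZMod 2)) : Submodule (ZMod 2) (α → ZMod 2) :=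
  LinearMap.BilinForm.orthogonal (dotProductBilin (ZMod 2) (ZMod 2)) C

theorem mem_dualC {C : Submodule (ZMod 2) (α → ZMod 2)} {v : α → ZMod 2} :
    v ∈ dualC C ↔ ∀ w ∈ C, w ⬝ᵥ v = 0 := by
  rw [dualC, LinearMap.BilinForm.mem_orthogonal_iff]
  rfl

theorem nondeg : (dotProductBilin (m := α) (A := ZMod 2) (ZMod 2) (ZMod 2)).Nondegenerate := by
  constructor
  · intro v hv
    exact dotProduct_eq_zero_iff.1 hv
  · intro v hv
    apply dotProduct_eq_zero_iff.1
    intro w
    rw [dotProduct_comm]
    exact hv w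

theorem finrank_dualC (C : Submodule (ZMod 2) (α → ZMod 2)) :
    Module.finrank (ZMod 2) C + Module.finrank (ZMod 2) (dualC C) = Fintype.card α := by
  have h1 := LinearMap.BilinForm.finrank_orthogonal (nondeg (α := α)) C
  have h2 := Submodule.finrank_le C
  rw [Module.finrank_fintype_fun_eq_card] at h1 h2
  rw [dualC, h1]
  omega

theorem Fam.of_code {C : Submodule (ZMod 2) (α → ZMod 2)} (hα : Fintype.card α = 24)
    (hdim : Module.finrank (ZMod 2) C = 12) (h4 : ∀ s : Finset α, ind s ∈ C → 4 ∣ s.card)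
    (hno : ∀ s : Finset α, ind s ∈ C → s.card ≠ 4) : Fam (fam C) where
  pts := hα
  zero := by rw [mem_fam, ind_empty]; exact C.zero_mem
  add := by
    intro a ha b hb
    rw [mem_fam] at ha hb ⊢
    rw [ind_symm]
    exact C.add_mem ha hb
  card := by rw [card_fam, hdim]; norm_num
  four := fun a ha => h4 a (mem_fam.1 ha)
  ne4 := fun a ha => hno a (mem_fam.1 ha)

theorem golay_fam : Fam (fam golayCode) := by
  refine Fam.of_code (by decide) Cfsg.Agent.Golay.finrank_golayCode ?_ ?_
  · intro s hs
    exact Cfsg.Agent.Golay.four_dvd_card (mem_supports.2 hs)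
  · intro s hs h4
    rcases Cfsg.Agent.Golay.card_cases (mem_supports.2 hs) with h | h | h | h | h <;> omega

theorem ind_comp {β : Type*} [Fintype β] [DecidableEq β] (e : α ≃ β) (s : Finset β) :
    (fun i => ind s (e i)) = ind (s.map e.symm.toEmbedding) := by
  funext i
  simp only [ind, mem_map_equiv, Equiv.symm_symm]

theorem code_unique {C : Submodule (ZMod 2) (α → ZMod 2)} (h : Fam (fam C)) (p : α) (q : GolayPt) :
    ∃ e : α ≃ GolayPt, e p = q ∧ ∀ w : GolayPt → ZMod 2, w ∈ golayCode ↔ (fun i => w (e i)) ∈ C := by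
  obtain ⟨e, hp, he⟩ := h.unique golay_fam p q
  refine ⟨e, hp, ?_⟩
  intro w
  rw [← ind_support w, ind_comp, ← mem_fam, ← mem_fam, he, Finset.map_map]
  have : (e.symm.toEmbedding.trans e.toEmbedding) = Function.Embedding.refl _ := by
    ext y; simp
  rw [this, map_refl]

end Cfsg.Agent.Stn
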