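import Mathlib

/-!
# Families of 4096 subsets of 24 points closed under symmetric difference, doubly even, without 4-sets
-/

set_option autoImplicit false

namespace Cfsg.Agent.Stn

open Finset

variable {α : Type*} [Fintype α] [DecidableEq α]

theorem card_symm (a b : Finset α) : (symmDiff a b).card + 2 * (a ∩ b).card = a.card + b.card := by
  have h1 : symmDiff a b = (a \ b) ∪ (b \ a) := rfl
  have h2 : Disjoint (a \ b) (b \ a) := disjoint_sdiff_sdiff
  rw [h1, card_union_of_disjoint h2]
  have h3 := card_sdiff_add_card_inter a b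
  have h4 := card_sdiff_add_card_inter b a
  rw [inter_comm b a] at h4
  omega

/-- family of supports of a Golay code -/
structure Fam (S : Finset (Finset α)) : Prop where
  pts : Fintype.card α = 24
  zero : ∅ ∈ S
  add : ∀ a ∈ S, ∀ b ∈ S, symmDiff a b ∈ S
  card : S.card = 4096
  four : ∀ a ∈ S, 4 ∣ a.card
  ne4 : ∀ a ∈ S, a.card ≠ 4

namespace Fam

variable {S : Finset (Finset α)} (h : Fam S)
include h

theorem inter_even {a b : Finset α} (ha : a ∈ S) (hb : b ∈ S) : 2 ∣ (a ∩ b).card := by
  have h1 := card_symm a b
  have h2 := h.four _ (h.add a ha b hb)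
  have h3 := h.four a ha
  have h4 := h.four b hb
  omega

theorem eq_empty {a : Finset α} (ha : a ∈ S) (hc : a.card < 8) : a = ∅ := by
  have h1 := h.four a ha
  have h2 := h.ne4 a ha
  apply card_eq_zero.1
  omega

theorem eq_of_symm {a b : Finset α} (hab : symmDiff a b ∈ S) (hc : (symmDiff a b).card < 8) : a = b := by
  have := h.eq_empty hab hc
  exact symmDiff_eq_bot.1 this

theorem add_iff {a b c : Finset α} (hb : symmDiff a b ∈ S) (hc : symmDiff b c ∈ S) : symmDiff a c ∈ S := by
  have := h.add _ hb _ hc
  have e : symmDiff (symmDiff a b) (symmDiff b c) = symmDiff a c := by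
    rw [symmDiff_assoc, ← symmDiff_assoc b b c, symmDiff_self, bot_symmDiff]
  rwa [e] at this

theorem cover (x : Finset α) : ∃ s : Finset α, s.card ≤ 4 ∧ symmDiff x s ∈ S := by
  classical
  set R : Finset (Finset α) := (range 4).biUnion (fun i => powersetCard i univ) with hR
  set T : Finset (Finset α) := powersetCard 4 univ with hT
  have hRm : ∀ r, r ∈ R ↔ r.card < 4 := by
    intro r
    rw [hR, mem_biUnion]
    constructor
    · rintro ⟨i, hi, hr⟩
      rw [mem_powersetCard] at hr
      rw [hr.2]; exact mem_range.1 hi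
    · intro hr
      exact ⟨r.card, mem_range.2 hr, mem_powersetCard.2 ⟨subset_univ _, rfl⟩⟩
  have hTm : ∀ r, r ∈ T ↔ r.card = 4 := by
    intro r
    rw [hT, mem_powersetCard]
    exact ⟨fun h => h.2, fun h => ⟨subset_univ _, h⟩⟩
  have hRc : R.card = 2325 := by
    rw [hR, card_biUnion]
    · simp only [card_powersetCard, card_univ, h.pts]
      decide
    · intro i _ j _ hij
      rw [Function.onFun, disjoint_left]
      intro a ha hb
      rw [mem_powersetCard] at ha hb
      exact hij (ha.2.symm.trans hb.2)
  have hTc : T.card = 10626 := by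
    rw [hT, card_powersetCard, card_univ, h.pts]
    decide
  set f : Finset α × Finset α → Finset α := fun p => symmDiff p.1 p.2 with hf
  -- equal sums
  have key : ∀ r c r' c' : Finset α, c ∈ S → c' ∈ S → symmDiff r c = symmDiff r' c' → symmDiff r r' ∈ S := by
    intro r c r' c' hc hc' he
    have e : symmDiff r r' = symmDiff c c' := by
      have h1 : symmDiff (symmDiff r c) (symmDiff r' c') = ∅ := by rw [he, symmDiff_self]; rfl
      have h2 : symmDiff (symmDiff r c) (symmDiff r' c') = symmDiff (symmDiff r r') (symmDiff c c') := by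
        rw [symmDiff_assoc, symmDiff_assoc, ← symmDiff_assoc c r' c', symmDiff_comm c r', symmDiff_assoc r' c c']
      rw [h2] at h1
      exact symmDiff_eq_bot.1 h1
    rw [e]; exact h.add _ hc _ hc'
  set A := (R ×ˢ S).image f with hA
  set Bs := (T ×ˢ S).image f with hB
  have hAc : A.card = 2325 * 4096 := by
    rw [hA, card_image_of_injOn, card_product, hRc, h.card]
    rintro ⟨r, c⟩ hp ⟨r', c'⟩ hp' he
    simp only [coe_product, Set.mem_prod, mem_coe] at hp hp'
    have hsum : symmDiff r c = symmDiff r' c' := he
    have h1 := key r c r' c' hp.2 hp'.2 hsum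
    have h2 := card_symm r r'
    have h3 := (hRm r).1 hp.1
    have h4 := (hRm r').1 hp'.1
    have h5 : r = r' := h.eq_of_symm h1 (by omega)
    subst h5
    have h6 : c = c' := symmDiff_right_injective r hsum
    rw [h6]
  have hBc : 10626 * 4096 ≤ 6 * Bs.card := by
    have h1 := card_le_mul_card_image (f := f) (T ×ˢ S) 6 (by
      intro y _
      -- the fibre is a family of disjoint tetrads
      have hinj : Set.InjOn Prod.fst (((T ×ˢ S).filter fun p => f p = y) : Set (Finset α × Finset α)) := by
        rintro ⟨r, c⟩ hp ⟨r', c'⟩ hp' he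
        simp only [coe_filter, Set.mem_ofPred_eq] at hp hp'
        have he' : r = r' := he
        subst he'
        have : symmDiff r c = symmDiff r c' := hp.2.trans hp'.2.symm
        rw [symmDiff_right_injective r this]
      rw [← card_image_of_injOn hinj]
      set U := ((T ×ˢ S).filter fun p => f p = y).image Prod.fst with hU
      have hUm : ∀ t ∈ U, t.card = 4 ∧ symmDiff t y ∈ S := by
        intro t ht
        rw [hU, mem_image] at ht
        obtain ⟨⟨r, c⟩, hp, rfl⟩ := ht
        rw [mem_filter, mem_product] at hp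
        refine ⟨(hTm r).1 hp.1.1, ?_⟩
        have : symmDiff r c = y := hp.2
        show symmDiff r y ∈ S
        rw [← this, ← symmDiff_assoc, symmDiff_self, bot_symmDiff]
        exact hp.1.2
      have hdis : ∀ s ∈ U, ∀ t ∈ U, s ≠ t → Disjoint s t := by
        intro s hs t ht hst
        obtain ⟨h1, h2⟩ := hUm s hs
        obtain ⟨h3, h4⟩ := hUm t ht
        rw [symmDiff_comm] at h4
        have h5 := h.add_iff h2 h4
        have h6 := card_symm s t
        rw [disjoint_iff_inter_eq_empty, ← card_eq_zero]
        by_contra h7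
        exact hst (h.eq_of_symm h5 (by omega))
      have h8 : (U.biUnion id).card = ∑ t ∈ U, (id t).card := card_biUnion hdis
      have h9 : ∑ t ∈ U, (id t).card = U.card * 4 := by
        have h90 : ∀ t ∈ U, (id t : Finset α).card = 4 := fun t ht => (hUm t ht).1
        rw [sum_congr rfl h90, sum_const, smul_eq_mul]
      have h10 : (U.biUnion id).card ≤ 24 := by
        rw [← h.pts]; exact card_le_univ _
      omega)
    rw [card_product, hTc, h.card] at h1
    exact h1
  have hdisj : Disjoint A Bs := by
    rw [disjoint_left]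
    intro y ha hb
    rw [hA, mem_image] at ha
    rw [hB, mem_image] at hb
    obtain ⟨⟨r, c⟩, hp, h1⟩ := ha
    obtain ⟨⟨t, c'⟩, hp', h2⟩ := hb
    rw [mem_product] at hp hp'
    have h3 := key r c t c' hp.2 hp'.2 (h1.trans h2.symm)
    have h4 := card_symm r t
    have h5 := (hRm r).1 hp.1
    have h6 := (hTm t).1 hp'.1
    have h7 : r = t := h.eq_of_symm h3 (by omega)
    subst h7
    omega
  have hall : A ∪ Bs = univ := by
    apply eq_univ_of_card
    apply le_antisymm (card_le_univ _)
    rw [card_union_of_disjoint hdisj, hAc, Fintype.card_finset, h.pts]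
    have : (2 : ℕ) ^ 24 = 2325 * 4096 + 1771 * 4096 := by norm_num
    omega
  have hx : x ∈ A ∪ Bs := by rw [hall]; exact mem_univ x
  have fin : ∀ r c : Finset α, c ∈ S → r.card ≤ 4 → symmDiff r c = x → ∃ s : Finset α, s.card ≤ 4 ∧ symmDiff x s ∈ S := by
    intro r c hc hr he
    refine ⟨r, hr, ?_⟩
    rw [← he, symmDiff_comm r c, symmDiff_assoc, symmDiff_self, symmDiff_bot]
    exact hc
  rw [mem_union] at hx
  rcases hx with hx | hx
  · rw [hA, mem_image] at hx
    obtain ⟨⟨r, c⟩, hp, h1⟩ := hx
    rw [mem_product] at hp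
    exact fin r c hp.2 (by have := (hRm r).1 hp.1; omega) h1
  · rw [hB, mem_image] at hx
    obtain ⟨⟨r, c⟩, hp, h1⟩ := hx
    rw [mem_product] at hp
    exact fin r c hp.2 (by have := (hTm r).1 hp.1; omega) h1

/-- octads -/
theorem octad5 {F : Finset α} (hF : F.card = 5) : ∃ X ∈ S, X.card = 8 ∧ F ⊆ X := by
  obtain ⟨s, hs, hx⟩ := h.cover F
  have h1 := card_symm F s
  have h2 := h.four _ hx
  have h3 := h.ne4 _ hx
  have h5 : (F ∩ s).card ≤ s.card := card_le_card inter_subset_right
  have h6 : (F ∩ s).card = 0 ∧ (symmDiff F s).card = 8 := by omega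
  refine ⟨_, hx, h6.2, ?_⟩
  intro a ha
  rw [mem_symmDiff]
  left
  refine ⟨ha, fun h7 => ?_⟩
  have : a ∈ F ∩ s := mem_inter.2 ⟨ha, h7⟩
  rw [card_eq_zero.1 h6.1] at this
  exact absurd this (notMem_empty a)

theorem octad_eq {X Y : Finset α} (hX : X ∈ S) (hY : Y ∈ S) (hX8 : X.card = 8) (hY8 : Y.card = 8)
    (hc : 5 ≤ (X ∩ Y).card) : X = Y := by
  have h1 := card_symm X Y
  exact h.eq_of_symm (h.add X hX Y hY) (by omega)

theorem univ_mem : univ ∈ S := by
  obtain ⟨s, hs, hx⟩ := h.cover univ
  have h1 := card_symm univ s
  have h2 := h.four _ hx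
  rw [univ_inter, card_univ, h.pts] at h1
  rcases Nat.eq_zero_or_pos s.card with h0 | h0
  · rw [card_eq_zero.1 h0] at hx
    have : symmDiff (univ : Finset α) ∅ = univ := symmDiff_bot univ
    rwa [this] at hx
  · exfalso
    have hs4 : s.card = 4 := by omega
    obtain ⟨t, hts, ht3⟩ := exists_subset_card_eq (show 3 ≤ s.card by omega)
    obtain ⟨x, hxs⟩ : ∃ x, x ∉ s := by
      by_contra hn
      push Not at hn
      have : s = univ := eq_univ_of_forall hn
      rw [this, card_univ, h.pts] at hs4
      omega
    have key : ∀ y, y ∉ s → y ≠ x → ∃ X ∈ S, X.card = 8 ∧ insert x s ⊆ X ∧ y ∈ X := by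
      intro y hy hyx
      have hF : (insert y (insert x t)).card = 5 := by
        rw [card_insert_of_notMem, card_insert_of_notMem, ht3]
        · exact fun h => hxs (hts h)
        · rw [mem_insert]
          rintro (h | h)
          · exact hyx h
          · exact hy (hts h)
      obtain ⟨X, hX, hX8, hFX⟩ := h.octad5 hF
      have h3 := h.inter_even hX hx
      have e : symmDiff (univ : Finset α) s = sᶜ := by
        ext a
        rw [mem_symmDiff, mem_compl]
        constructor
        · rintro (h | h)
          · exact h.2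
          · exact absurd (mem_univ a) h.2
        · intro h; exact Or.inl ⟨mem_univ a, h⟩
      rw [e] at h3
      have h4 : (X ∩ s).card + (X ∩ sᶜ).card = 8 := by
        rw [← hX8, ← card_union_of_disjoint]
        · congr 1
          ext a
          simp only [mem_union, mem_inter, mem_compl]
          tauto
        · rw [disjoint_left]
          intro a ha hb
          exact (mem_compl.1 (mem_inter.1 hb).2) (mem_inter.1 ha).2
      have h5 : 3 ≤ (X ∩ s).card := by
        rw [← ht3]
        apply card_le_card
        intro a ha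
        exact mem_inter.2 ⟨hFX (mem_insert_of_mem (mem_insert_of_mem ha)), hts ha⟩
      have h6 : (X ∩ s).card ≤ s.card := card_le_card inter_subset_right
      have h7 : X ∩ s = s := eq_of_subset_of_card_le inter_subset_right (by omega)
      refine ⟨X, hX, hX8, ?_, hFX (mem_insert_self _ _)⟩
      intro a ha
      rw [mem_insert] at ha
      rcases ha with rfl | ha
      · exact hFX (mem_insert_of_mem (mem_insert_self _ _))
      · rw [← h7] at ha; exact (mem_inter.1 ha).1
    -- all these octads are equal
    have hcard : (insert x s).card = 5 := by rw [card_insert_of_notMem hxs, hs4]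
    obtain ⟨X0, hX0, hX08, hX0s⟩ := h.octad5 hcard
    have hall : X0 = univ := by
      apply eq_univ_of_forall
      intro y
      by_cases hy : y ∈ insert x s
      · exact hX0s hy
      · rw [mem_insert, not_or] at hy
        obtain ⟨X, hX, hX8, hXs, hyX⟩ := key y hy.2 hy.1
        have : X = X0 := by
          apply h.octad_eq hX hX0 hX8 hX08
          rw [← hcard]
          exact card_le_card (subset_inter hXs hX0s)
        rwa [this] at hyX
    rw [hall, card_univ, h.pts] at hX08
    omega

end Fam

end Cfsg.Agent.Stn
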