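import Cfsg.Agent.Stn.Comb
import Cfsg.Agent.Stn.Biplane

/-!
# Dodecads and frames of a Golay family
-/

set_option autoImplicit false

namespace Cfsg.Agent.Stn

open Finset

variable {α : Type*} [Fintype α] [DecidableEq α] {S : Finset (Finset α)}

namespace Fam

variable (h : Fam S)
include h

theorem compl_mem {a : Finset α} (ha : a ∈ S) : aᶜ ∈ S := by
  have := h.add _ h.univ_mem _ ha
  have e : symmDiff (univ : Finset α) a = aᶜ := top_symmDiff a
  rwa [e] at this

theorem pair_octad {O : Finset α} (hO : O ∈ S) (hO8 : O.card = 8) {a b : α} (ha : a ∈ O) (hb : b ∈ O)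
    (hab : a ≠ b) : ∃ X ∈ S, X.card = 8 ∧ X ∩ O = {a, b} := by
  have hOc : Oᶜ.card = 16 := by rw [card_compl, h.pts, hO8]
  obtain ⟨x, y, hx, hy, hxy⟩ := one_lt_card_iff.1 (show 1 < Oᶜ.card by omega)
  rw [mem_compl] at hx hy
  set T : Finset α := {a, b, x, y} with hT
  have hax : a ≠ x := fun e => hx (e ▸ ha)
  have hay : a ≠ y := fun e => hy (e ▸ ha)
  have hbx : b ≠ x := fun e => hx (e ▸ hb)
  have hby : b ≠ y := fun e => hy (e ▸ hb)
  have hT4 : T.card = 4 := by
    rw [hT, card_insert_of_notMem, card_insert_of_notMem, card_insert_of_notMem, card_singleton]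
    · rw [mem_singleton]; exact hxy
    · rw [mem_insert, mem_singleton, not_or]; exact ⟨hbx, hby⟩
    · rw [mem_insert, mem_insert, mem_singleton, not_or, not_or]; exact ⟨hab, hax, hay⟩
  have hX : ∀ z, ∃ X : Finset α, z ∉ T → X ∈ S ∧ X.card = 8 ∧ insert z T ⊆ X := by
    intro z
    by_cases hz : z ∈ T
    · exact ⟨∅, fun h => absurd hz h⟩
    · obtain ⟨X, h1, h2, h3⟩ := h.octad5 (F := insert z T) (by rw [card_insert_of_notMem hz, hT4])
      exact ⟨X, fun _ => ⟨h1, h2, h3⟩⟩
  choose X hX using hX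
  have huniq : ∀ z w, z ∉ T → w ∉ T → w ∈ X z → X w = X z := by
    intro z w hz hw hwz
    obtain ⟨h1, h2, h3⟩ := hX z hz
    obtain ⟨h4, h5, h6⟩ := hX w hw
    apply h.octad_eq h4 h1 h5 h2
    have : (insert w T).card = 5 := by rw [card_insert_of_notMem hw, hT4]
    rw [← this]
    apply card_le_card
    apply subset_inter h6
    rw [insert_subset_iff]
    exact ⟨hwz, fun t ht => h3 (mem_insert_of_mem ht)⟩
  set Q : Finset α := (O.erase a).erase b with hQ
  have hQ6 : Q.card = 6 := by
    rw [hQ, card_erase_of_mem, card_erase_of_mem ha, hO8]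
    rw [mem_erase]; exact ⟨hab.symm, hb⟩
  have hQT : ∀ q ∈ Q, q ∉ T := by
    intro q hq
    rw [hQ, mem_erase, mem_erase] at hq
    rw [hT, mem_insert, mem_insert, mem_insert, mem_singleton]
    rintro (e | e | e | e)
    · exact hq.2.1 e
    · exact hq.1 e
    · exact hx (e ▸ hq.2.2)
    · exact hy (e ▸ hq.2.2)
  have hfib : ∀ q ∈ Q, 2 ≤ (Q.filter fun t => X t = X q).card := by
    intro q hq
    obtain ⟨h1, h2, h3⟩ := hX q (hQT q hq)
    have h4 := h.inter_even h1 hO
    have h5 : ({a, b, q} : Finset α) ⊆ X q ∩ O := by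
      rw [insert_subset_iff, insert_subset_iff, singleton_subset_iff]
      rw [hQ, mem_erase, mem_erase] at hq
      refine ⟨mem_inter.2 ⟨h3 (mem_insert_of_mem ?_), ha⟩, mem_inter.2 ⟨h3 (mem_insert_of_mem ?_), hb⟩, mem_inter.2 ⟨h3 (mem_insert_self _ _), hq.2.2⟩⟩
      · rw [hT]; exact mem_insert_self _ _
      · rw [hT]; exact mem_insert_of_mem (mem_insert_self _ _)
    have h6 : ({a, b, q} : Finset α).card = 3 := by
      rw [hQ, mem_erase, mem_erase] at hq
      rw [card_insert_of_notMem, card_insert_of_notMem, card_singleton]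
      · rw [mem_singleton]; exact hq.1.symm
      · rw [mem_insert, mem_singleton, not_or]; exact ⟨hab, hq.2.1.symm⟩
    have h7 := card_le_card h5
    rw [h6] at h7
    have h8 : 4 ≤ (X q ∩ O).card := by omega
    have h9 : ((X q ∩ O).erase a).erase b ⊆ Q.filter fun t => X t = X q := by
      intro t ht
      rw [mem_erase, mem_erase, mem_inter] at ht
      have htQ : t ∈ Q := by rw [hQ, mem_erase, mem_erase]; exact ⟨ht.1, ht.2.1, ht.2.2.2⟩
      rw [mem_filter]
      exact ⟨htQ, huniq q t (hQT q hq) (hQT t htQ) ht.2.2.1⟩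
    refine le_trans ?_ (card_le_card h9)
    have ha' : a ∈ X q ∩ O := h5 (mem_insert_self _ _)
    have hb' : b ∈ (X q ∩ O).erase a := by
      rw [mem_erase]; exact ⟨hab.symm, h5 (mem_insert_of_mem (mem_insert_self _ _))⟩
    rw [card_erase_of_mem hb', card_erase_of_mem ha']
    omega
  set P := Q.image X with hP
  have hP3 : 2 * P.card ≤ 6 := by
    rw [← hQ6]
    apply mul_card_image_le_card_of_maps_to (f := X) (s := Q) (t := P) (fun q hq => mem_image_of_mem _ hq) 2
    intro Y hY
    rw [hP, mem_image] at hY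
    obtain ⟨q, hq, rfl⟩ := hY
    exact hfib q hq
  have hU : (P.biUnion fun Y => Y \ T).card ≤ P.card * 4 := by
    apply card_biUnion_le_card_mul
    intro Y hY
    rw [hP, mem_image] at hY
    obtain ⟨q, hq, rfl⟩ := hY
    obtain ⟨h1, h2, h3⟩ := hX q (hQT q hq)
    have h4 : T ⊆ X q := fun t ht => h3 (mem_insert_of_mem ht)
    rw [card_sdiff_of_subset h4, h2, hT4]
  obtain ⟨z, hz⟩ : ∃ z, z ∉ (P.biUnion fun Y => Y \ T) ∪ T := by
    by_contra hn
    push Not at hn
    have h1 : (P.biUnion fun Y => Y \ T) ∪ T = univ := eq_univ_of_forall hn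
    have h2 := card_union_le (P.biUnion fun Y => Y \ T) T
    rw [h1, card_univ, h.pts] at h2
    omega
  rw [mem_union, not_or] at hz
  obtain ⟨h1, h2, h3⟩ := hX z hz.2
  refine ⟨X z, h1, h2, ?_⟩
  apply Subset.antisymm
  · intro t ht
    rw [mem_inter] at ht
    rw [mem_insert, mem_singleton]
    by_contra hn
    rw [not_or] at hn
    have htQ : t ∈ Q := by rw [hQ, mem_erase, mem_erase]; exact ⟨hn.2, hn.1, ht.2⟩
    apply hz.1
    rw [mem_biUnion]
    refine ⟨X t, mem_image_of_mem _ htQ, ?_⟩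
    rw [huniq z t hz.2 (hQT t htQ) ht.1, mem_sdiff]
    exact ⟨h3 (mem_insert_self _ _), hz.2⟩
  · rw [insert_subset_iff, singleton_subset_iff]
    refine ⟨mem_inter.2 ⟨h3 (mem_insert_of_mem ?_), ha⟩, mem_inter.2 ⟨h3 (mem_insert_of_mem ?_), hb⟩⟩
    · rw [hT]; exact mem_insert_self _ _
    · rw [hT]; exact mem_insert_of_mem (mem_insert_self _ _)

theorem dodecad (p : α) : ∃ D ∈ S, D.card = 12 ∧ p ∈ D := by
  obtain ⟨F, hF, hF5⟩ := exists_subset_card_eq (show 5 ≤ (univ : Finset α).card by rw [card_univ, h.pts]; norm_num)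
  obtain ⟨O, hO, hO8, -⟩ := h.octad5 hF5
  obtain ⟨a, b, ha, hb, hab⟩ := one_lt_card_iff.1 (show 1 < O.card by omega)
  obtain ⟨X, hX, hX8, hXO⟩ := h.pair_octad hO hO8 ha hb hab
  have h1 := card_symm X O
  rw [hXO, hX8, hO8, card_pair hab] at h1
  have h2 := h.add _ hX _ hO
  have h3 : (symmDiff X O).card = 12 := by omega
  by_cases hp : p ∈ symmDiff X O
  · exact ⟨_, h2, h3, hp⟩
  · exact ⟨_, h.compl_mem h2, by rw [card_compl, h.pts, h3], mem_compl.2 hp⟩

section
variable {D : Finset α} (hD : D ∈ S) (hD12 : D.card = 12)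
include hD hD12

theorem sub_compl {a : Finset α} (ha : a ∈ S) (hdis : a ∩ D = ∅) : a = ∅ ∨ a = Dᶜ := by
  have h1 : a ⊆ Dᶜ := by
    intro x hx
    rw [mem_compl]
    intro hxD
    have : x ∈ a ∩ D := mem_inter.2 ⟨hx, hxD⟩
    rw [hdis] at this
    exact absurd this (notMem_empty x)
  have h2 := card_le_card h1
  have h3 : Dᶜ.card = 12 := by rw [card_compl, h.pts, hD12]
  have h4 := h.four a ha
  have h5 := h.ne4 a ha
  by_cases h6 : a.card = 12
  · right
    exact eq_of_subset_of_card_le h1 (by omega)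
  · left
    by_contra hne
    have h7 : a.card ≠ 0 := fun e => hne (card_eq_zero.1 e)
    have h8 : a.card = 8 := by omega
    have h9 := card_symm a D
    rw [hdis, card_empty, h8, hD12] at h9
    have h10 := h.compl_mem (h.add _ ha _ hD)
    apply h.ne4 _ h10
    rw [card_compl, h.pts]
    omega

theorem fib_le (y : Finset α) (hy : y ∈ S.image (· ∩ D)) : (S.filter fun c => c ∩ D = y).card ≤ 2 := by
  rw [mem_image] at hy
  obtain ⟨c0, hc0, hc0y⟩ := hy
  have : (S.filter fun c => c ∩ D = y) ⊆ {c0, symmDiff c0 Dᶜ} := by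
    intro c hc
    rw [mem_filter] at hc
    have h1 : symmDiff c0 c ∩ D = ∅ := by
      ext x
      have h2 : x ∈ c0 ∩ D ↔ x ∈ c ∩ D := by rw [hc0y, hc.2]
      rw [mem_inter, mem_inter] at h2
      rw [mem_inter, mem_symmDiff]
      constructor
      · rintro ⟨h3 | h3, h4⟩ <;> exfalso
        · exact h3.2 (h2.1 ⟨h3.1, h4⟩).1
        · exact h3.2 (h2.2 ⟨h3.1, h4⟩).1
      · intro h; exact absurd h (notMem_empty x)
    rw [mem_insert, mem_singleton]
    rcases h.sub_compl hD hD12 (h.add _ hc0 _ hc.1) h1 with h2 | h2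
    · left; exact (symmDiff_eq_bot.1 h2).symm
    · right; rw [← h2, symmDiff_symmDiff_cancel_left]
  exact (card_le_card this).trans card_le_two

theorem realise {e : Finset α} (he : e ⊆ D) (hev : 2 ∣ e.card) : ∃ c ∈ S, c ∩ D = e := by
  have h1 : S.card ≤ 2 * (S.image (· ∩ D)).card :=
    card_le_mul_card_image S 2 (fun y hy => h.fib_le hD hD12 y hy)
  rw [h.card] at h1
  set E := D.powerset.filter fun e => 2 ∣ e.card with hE
  have hsub : S.image (· ∩ D) ⊆ E := by
    intro y hy
    rw [mem_image] at hy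
    obtain ⟨c, hc, rfl⟩ := hy
    rw [hE, mem_filter, mem_powerset]
    exact ⟨inter_subset_right, h.inter_even hc hD⟩
  obtain ⟨d, hd⟩ : D.Nonempty := card_pos.1 (by omega)
  have hEc : 2 * E.card ≤ 4096 := by
    have h2 : Disjoint E (E.image fun e => symmDiff e {d}) := by
      rw [disjoint_left]
      intro x hx hx'
      rw [mem_image] at hx'
      obtain ⟨y, hy, rfl⟩ := hx'
      rw [hE, mem_filter] at hx hy
      have h3 := card_symm y {d}
      rw [card_singleton] at h3
      have h4 := hx.2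
      have h5 := hy.2
      omega
    have h3 : (E.image fun e => symmDiff e {d}).card = E.card := by
      apply card_image_of_injective
      intro x y hxy
      exact symmDiff_left_injective {d} hxy
    have h4 : E ∪ (E.image fun e => symmDiff e {d}) ⊆ D.powerset := by
      intro x hx
      rw [mem_union] at hx
      rcases hx with hx | hx
      · rw [hE, mem_filter] at hx; exact hx.1
      · rw [mem_image] at hx
        obtain ⟨y, hy, rfl⟩ := hx
        rw [hE, mem_filter, mem_powerset] at hy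
        rw [mem_powerset]
        intro t ht
        rw [mem_symmDiff, mem_singleton] at ht
        rcases ht with ht | ht
        · exact hy.1 ht.1
        · rw [ht.1]; exact hd
    have h5 := card_le_card h4
    rw [card_union_of_disjoint h2, h3, card_powerset, hD12] at h5
    norm_num at h5
    omega
  have heq : S.image (· ∩ D) = E := eq_of_subset_of_card_le hsub (by omega)
  have : e ∈ S.image (· ∩ D) := by
    rw [heq, hE, mem_filter, mem_powerset]
    exact ⟨he, hev⟩
  rw [mem_image] at this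
  exact this

/-- words meeting a dodecad in two points are octads -/
theorem two_card {c : Finset α} (hc : c ∈ S) (h2 : (c ∩ D).card = 2) : c.card = 8 ∧ (c ∩ Dᶜ).card = 6 := by
  have h1 : (c ∩ D).card + (c ∩ Dᶜ).card = c.card := by
    rw [← card_union_of_disjoint]
    · congr 1
      ext x
      simp only [mem_union, mem_inter, mem_compl]
      tauto
    · rw [disjoint_left]
      intro x hx hx'
      exact (mem_compl.1 (mem_inter.1 hx').2) (mem_inter.1 hx).2
  have h3 := card_symm c Dᶜ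
  have h4 : Dᶜ.card = 12 := by rw [card_compl, h.pts, hD12]
  have h5 := h.add _ hc _ (h.compl_mem hD)
  have h6 := h.four _ hc
  have h7 := h.four _ h5
  have h8 := h.ne4 _ hc
  have h9 := h.ne4 _ h5
  have h10 : (c ∩ Dᶜ).card ≤ 12 := by rw [← h4]; exact card_le_card inter_subset_right
  have h11 : (symmDiff c Dᶜ).card ≠ 0 := by
    intro h12
    have h13 := symmDiff_eq_bot.1 (card_eq_zero.1 h12)
    rw [h13] at h2
    have : Dᶜ ∩ D = ∅ := by ext x; simp
    rw [this, card_empty] at h2
    omega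
  omega

theorem pair_word {i j : α} (hi : i ∈ D) (hj : j ∈ D) (hij : i ≠ j) {p : α} (hp : p ∉ D) :
    ∃ c ∈ S, c ∩ D = {i, j} ∧ p ∈ c := by
  obtain ⟨c, hc, hcD⟩ := h.realise hD hD12 (e := {i, j}) (by
    rw [insert_subset_iff, singleton_subset_iff]; exact ⟨hi, hj⟩) (by rw [card_pair hij])
  by_cases hpc : p ∈ c
  · exact ⟨c, hc, hcD, hpc⟩
  · refine ⟨symmDiff c Dᶜ, h.add _ hc _ (h.compl_mem hD), ?_, ?_⟩
    · rw [← hcD]
      ext x
      simp only [mem_inter, mem_symmDiff, mem_compl]
      tauto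
    · rw [mem_symmDiff, mem_compl]
      right; exact ⟨hp, hpc⟩

theorem inc {i j d e : α} (hid : i ≠ d) (hje : j ≠ e) {c f : Finset α}
    (hc : c ∈ S) (hcD : c ∩ D = {d, i}) (hec : e ∈ c)
    (hf : f ∈ S) (hfD : f ∩ Dᶜ = {e, j}) (hdf : d ∈ f) : j ∈ c ↔ i ∈ f := by
  have h1 := h.inter_even hc hf
  have h2 : (c ∩ f).card = (c ∩ f ∩ D).card + (c ∩ f ∩ Dᶜ).card := by
    rw [← card_union_of_disjoint]
    · congr 1
      ext x
      simp only [mem_union, mem_inter, mem_compl]
      tauto
    · rw [disjoint_left]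
      intro x hx hx'
      exact (mem_compl.1 (mem_inter.1 hx').2) (mem_inter.1 hx).2
  have h3 : c ∩ f ∩ D = if i ∈ f then {d, i} else {d} := by
    rw [inter_right_comm, hcD]
    split_ifs with hif
    · rw [inter_eq_left, insert_subset_iff, singleton_subset_iff]; exact ⟨hdf, hif⟩
    · ext x
      rw [mem_inter, mem_insert, mem_singleton, mem_singleton]
      constructor
      · rintro ⟨rfl | rfl, h5⟩
        · rfl
        · exact absurd h5 hif
      · rintro rfl; exact ⟨Or.inl rfl, hdf⟩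
  have h4 : c ∩ f ∩ Dᶜ = if j ∈ c then {e, j} else {e} := by
    rw [inter_assoc, hfD]
    split_ifs with hif
    · rw [inter_eq_right, insert_subset_iff, singleton_subset_iff]; exact ⟨hec, hif⟩
    · ext x
      rw [mem_inter, mem_insert, mem_singleton, mem_singleton]
      constructor
      · rintro ⟨h5, rfl | rfl⟩
        · rfl
        · exact absurd h5 hif
      · rintro rfl; exact ⟨hec, Or.inl rfl⟩
  have h5 : ({d, i} : Finset α).card = 2 := card_pair hid.symm
  have h6 : ({e, j} : Finset α).card = 2 := card_pair hje.symm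
  by_cases ha : j ∈ c <;> by_cases hb : i ∈ f
  · exact ⟨fun _ => hb, fun _ => ha⟩
  · rw [if_neg hb] at h3
    rw [if_pos ha] at h4
    rw [h2, h3, h4, h6, card_singleton] at h1
    omega
  · rw [if_pos hb] at h3
    rw [if_neg ha] at h4
    rw [h2, h3, h4, h5, card_singleton] at h1
    omega
  · exact ⟨fun h => absurd h ha, fun h => absurd h hb⟩

theorem meet {i j d : α} (hij : i ≠ j) (hid : i ≠ d) (hjd : j ≠ d) {c f : Finset α}
    (hc : c ∈ S) (hcD : c ∩ D = {d, i})
    (hf : f ∈ S) (hfD : f ∩ D = {d, j}) : (c ∩ f ∩ Dᶜ).card = 3 := by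
  have h1 := h.two_card hD hD12 hc (by rw [hcD, card_pair hid.symm])
  have h2 := h.two_card hD hD12 hf (by rw [hfD, card_pair hjd.symm])
  have h3 : (symmDiff c f) ∩ D = {i, j} := by
    ext x
    have e1 : x ∈ c ∩ D ↔ x ∈ ({d, i} : Finset α) := by rw [hcD]
    have e2 : x ∈ f ∩ D ↔ x ∈ ({d, j} : Finset α) := by rw [hfD]
    rw [mem_inter, mem_insert, mem_singleton] at e1 e2
    rw [mem_inter, mem_symmDiff, mem_insert, mem_singleton]
    constructor
    · rintro ⟨h4 | h4, h5⟩
      · rcases e1.1 ⟨h4.1, h5⟩ with h6 | h6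
        · exact absurd (e2.2 (Or.inl h6)).1 h4.2
        · exact Or.inl h6
      · rcases e2.1 ⟨h4.1, h5⟩ with h6 | h6
        · exact absurd (e1.2 (Or.inl h6)).1 h4.2
        · exact Or.inr h6
    · rintro (h4 | h4)
      · have h5 := e1.2 (Or.inr h4)
        refine ⟨Or.inl ⟨h5.1, fun h6 => ?_⟩, h5.2⟩
        rcases e2.1 ⟨h6, h5.2⟩ with h7 | h7
        · exact hid (h4.symm.trans h7)
        · exact hij (h4.symm.trans h7)
      · have h5 := e2.2 (Or.inr h4)
        refine ⟨Or.inr ⟨h5.1, fun h6 => ?_⟩, h5.2⟩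
        rcases e1.1 ⟨h6, h5.2⟩ with h7 | h7
        · exact hjd (h4.symm.trans h7)
        · exact hij (h7.symm.trans h4)
  have h4 := h.two_card hD hD12 (h.add _ hc _ hf) (by rw [h3, card_pair hij])
  have h5 := card_symm c f
  have h6 : (c ∩ f).card = (c ∩ f ∩ D).card + (c ∩ f ∩ Dᶜ).card := by
    rw [← card_union_of_disjoint]
    · congr 1
      ext x
      simp only [mem_union, mem_inter, mem_compl]
      tauto
    · rw [disjoint_left]
      intro x hx hx'
      exact (mem_compl.1 (mem_inter.1 hx').2) (mem_inter.1 hx).2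
  have h7 : c ∩ f ∩ D = {d} := by
    ext x
    have e1 : x ∈ c ∩ D ↔ x ∈ ({d, i} : Finset α) := by rw [hcD]
    have e2 : x ∈ f ∩ D ↔ x ∈ ({d, j} : Finset α) := by rw [hfD]
    rw [mem_inter, mem_insert, mem_singleton] at e1 e2
    rw [mem_inter, mem_inter, mem_singleton]
    constructor
    · rintro ⟨⟨h7, h8⟩, h9⟩
      rcases e1.1 ⟨h7, h9⟩ with h10 | h10
      · exact h10
      · rcases e2.1 ⟨h8, h9⟩ with h11 | h11
        · exact h11
        · exact absurd (h10.symm.trans h11) hij
    · rintro h7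
      have h8 := e1.2 (Or.inl h7)
      have h9 := e2.2 (Or.inl h7)
      exact ⟨⟨h8.1, h9.1⟩, h8.2⟩
  rw [h7, card_singleton] at h6
  omega

end

end Fam

end Cfsg.Agent.Stn
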