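import Cfsg.Agent.Stn.Span

/-!
# Extension of S(3, 6, 22) to the Golay code
-/

set_option autoImplicit false

namespace Cfsg.Agent.Stn

open Finset Matrix

variable {α : Type*} [Fintype α] [DecidableEq α]

/-- all moments -/
theorem moment_all {t k : ℕ} {B : Set (Finset α)} (hB : IsSteinerSystem t k B) (X : Finset α) {j l : ℕ}
    (hl : ∀ Y : Finset α, Y.card = j → ((bl B).filter fun b => Y ⊆ b).card = l) :
    ∑ b ∈ bl B, (b ∩ X).card.choose j = X.card.choose j * l := by
  rw [moment]
  have : ∀ Y ∈ X.powersetCard j, ((bl B).filter fun b => Y ⊆ b).card = l := by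
    intro Y hY
    rw [mem_powersetCard] at hY
    exact hl Y hY.2
  rw [sum_congr rfl this, sum_const, card_powersetCard, smul_eq_mul]

/-- sphere packing -/
theorem sphere {S : Finset (Finset α)} (hα : Fintype.card α = 22) (hadd : ∀ a ∈ S, ∀ b ∈ S, symmDiff a b ∈ S)
    (hmin : ∀ a ∈ S, a.card < 6 → a = ∅)
    (h6 : ∀ a ∈ S, ∀ b ∈ S, a.card = 6 → b.card = 6 → 3 ≤ (a ∩ b).card → a = b) : S.card ≤ 4096 := by
  classical
  set R : Finset (Finset α) := (range 3).biUnion (fun i => powersetCard i univ) with hR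
  set T : Finset (Finset α) := powersetCard 3 univ with hT
  have hRm : ∀ r, r ∈ R ↔ r.card < 3 := by
    intro r
    rw [hR, mem_biUnion]
    constructor
    · rintro ⟨i, hi, hr⟩
      rw [mem_powersetCard] at hr
      rw [hr.2]; exact mem_range.1 hi
    · intro hr
      exact ⟨r.card, mem_range.2 hr, mem_powersetCard.2 ⟨subset_univ _, rfl⟩⟩
  have hTm : ∀ r, r ∈ T ↔ r.card = 3 := by
    intro r
    rw [hT, mem_powersetCard]
    exact ⟨fun h => h.2, fun h => ⟨subset_univ _, h⟩⟩
  have hRc : R.card = 254 := by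
    rw [hR, card_biUnion]
    · simp only [card_powersetCard, card_univ, hα]
      decide
    · intro i _ j _ hij
      rw [Function.onFun, disjoint_left]
      intro a ha hb
      rw [mem_powersetCard] at ha hb
      exact hij (ha.2.symm.trans hb.2)
  have hTc : T.card = 1540 := by
    rw [hT, card_powersetCard, card_univ, hα]
    decide
  set f : Finset α × Finset α → Finset α := fun p => symmDiff p.1 p.2 with hf
  have key : ∀ r c r' c' : Finset α, c ∈ S → c' ∈ S → symmDiff r c = symmDiff r' c' → symmDiff r r' ∈ S := by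
    intro r c r' c' hc hc' he
    have e : symmDiff r r' = symmDiff c c' := by
      have h1 : symmDiff (symmDiff r c) (symmDiff r' c') = ∅ := by rw [he, symmDiff_self]; rfl
      have h2 : symmDiff (symmDiff r c) (symmDiff r' c') = symmDiff (symmDiff r r') (symmDiff c c') := by
        rw [symmDiff_assoc, symmDiff_assoc, ← symmDiff_assoc c r' c', symmDiff_comm c r', symmDiff_assoc r' c c']
      rw [h2] at h1
      exact symmDiff_eq_bot.1 h1
    rw [e]; exact hadd _ hc _ hc'
  have eqs : ∀ a b : Finset α, symmDiff a b ∈ S → (symmDiff a b).card < 6 → a = b := by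
    intro a b h1 h2
    exact symmDiff_eq_bot.1 (hmin _ h1 h2)
  set A := (R ×ˢ S).image f with hA
  set Bs := (T ×ˢ S).image f with hB
  have hAc : A.card = 254 * S.card := by
    rw [hA, card_image_of_injOn, card_product, hRc]
    rintro ⟨r, c⟩ hp ⟨r', c'⟩ hp' he
    simp only [coe_product, Set.mem_prod, mem_coe] at hp hp'
    have hsum : symmDiff r c = symmDiff r' c' := he
    have h1 := key r c r' c' hp.2 hp'.2 hsum
    have h2 := card_symm r r'
    have h3 := (hRm r).1 hp.1
    have h4 := (hRm r').1 hp'.1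
    have h5 : r = r' := eqs _ _ h1 (by omega)
    subst h5
    have h6 : c = c' := symmDiff_right_injective r hsum
    rw [h6]
  have hBc : 1540 * S.card ≤ 2 * Bs.card := by
    have h1 := card_le_mul_card_image (f := f) (T ×ˢ S) 2 (by
      intro y _
      have hinj : Set.InjOn Prod.fst (((T ×ˢ S).filter fun p => f p = y) : Set (Finset α × Finset α)) := by
        rintro ⟨r, c⟩ hp ⟨r', c'⟩ hp' he
        simp only [coe_filter, Set.mem_ofPred_eq] at hp hp'
        have he' : r = r' := he
        subst he'
        have : symmDiff r c = symmDiff r c' := hp.2.trans hp'.2.symm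
        rw [symmDiff_right_injective r this]
      rw [← card_image_of_injOn hinj]
      set U := ((T ×ˢ S).filter fun p => f p = y).image Prod.fst with hU
      have hUm : ∀ t ∈ U, t.card = 3 ∧ symmDiff t y ∈ S := by
        intro t ht
        rw [hU, mem_image] at ht
        obtain ⟨⟨r, c⟩, hp, rfl⟩ := ht
        rw [mem_filter, mem_product] at hp
        refine ⟨(hTm r).1 hp.1.1, ?_⟩
        have : symmDiff r c = y := hp.2
        show symmDiff r y ∈ S
        rw [← this, ← symmDiff_assoc, symmDiff_self, bot_symmDiff]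
        exact hp.1.2
      rcases U.eq_empty_or_nonempty with h0 | ⟨s, hs⟩
      · rw [h0, card_empty]; norm_num
      · -- all others are equal
        have hpair : ∀ t ∈ U, s ≠ t → symmDiff s t ∈ S ∧ (symmDiff s t).card = 6 ∧ s ⊆ symmDiff s t := by
          intro t ht hst
          obtain ⟨h1, h2⟩ := hUm s hs
          obtain ⟨h3, h4⟩ := hUm t ht
          rw [symmDiff_comm] at h4
          have h5 : symmDiff s t ∈ S := by
            have := hadd _ h2 _ h4
            have e : symmDiff (symmDiff s y) (symmDiff y t) = symmDiff s t := by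
              rw [symmDiff_assoc, ← symmDiff_assoc y y t, symmDiff_self, bot_symmDiff]
            rwa [e] at this
          have h6 := card_symm s t
          have h7 : (s ∩ t).card = 0 := by
            by_contra h7
            exact hst (eqs _ _ h5 (by omega))
          refine ⟨h5, by omega, ?_⟩
          intro x hx
          rw [mem_symmDiff]
          left
          refine ⟨hx, fun hxt => ?_⟩
          rw [card_eq_zero] at h7
          exact absurd (mem_inter.2 ⟨hx, hxt⟩) (by rw [h7]; exact notMem_empty x)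
        have h2 : (U.erase s).card ≤ 1 := by
          rw [card_le_one]
          intro a ha b hb
          rw [mem_erase] at ha hb
          obtain ⟨a1, a2, a3⟩ := hpair a ha.2 ha.1.symm
          obtain ⟨b1, b2, b3⟩ := hpair b hb.2 hb.1.symm
          have := h6 _ a1 _ b1 a2 b2 (by rw [← (hUm s hs).1]; exact card_le_card (subset_inter a3 b3))
          exact symmDiff_right_injective s this
        rw [card_erase_of_mem hs] at h2
        omega)
    rw [card_product, hTc] at h1
    exact h1
  have hdisj : Disjoint A Bs := by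
    rw [disjoint_left]
    intro y ha hb
    rw [hA, mem_image] at ha
    rw [hB, mem_image] at hb
    obtain ⟨⟨r, c⟩, hp, h1⟩ := ha
    obtain ⟨⟨t, c'⟩, hp', h2⟩ := hb
    rw [mem_product] at hp hp'
    have h3 := key r c t c' hp.2 hp'.2 (h1.trans h2.symm)
    have h4 := card_symm r t
    have h5 := (hRm r).1 hp.1
    have h6 := (hTm t).1 hp'.1
    have h7 : r = t := eqs _ _ h3 (by omega)
    subst h7
    omega
  have hall := card_le_univ (A ∪ Bs)
  rw [card_union_of_disjoint hdisj, hAc, Fintype.card_finset, hα] at hall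
  norm_num at hall
  omega

variable {B : Set (Finset α)} (hα : Fintype.card α = 22) (hB : IsSteinerSystem 3 6 B)
include hα hB

theorem even3 : ∀ b ∈ B, ∀ c ∈ B, 2 ∣ (b ∩ c).card := by
  intro b hb c hc
  by_cases hbc : b = c
  · subst hbc
    rw [inter_self, hB.1 b hb]; norm_num
  · rcases inter3 hα hB hc hb hbc with h | h <;> omega

/-- words meeting all blocks evenly -/
theorem even_words {y : Finset α} (hy : ∀ b ∈ B, (b ∩ y).card % 2 = 0) : (y.card < 6 → y = ∅) ∧ (y.card = 6 → y ∈ B) := by
  have m3 := moment_all hB y (fun Y hY => (lam3 hα hB Y).1 hY)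
  have m2 := moment_all hB y (fun Y hY => (lam3 hα hB Y).2.1 hY)
  have m1 := moment_all hB y (fun Y hY => (lam3 hα hB Y).2.2.1 hY)
  have key : ∀ i < 7, i % 2 = 0 → 2 * i.choose 2 = i.choose 1 + 8 * (if i = 4 then 1 else 0) + 24 * (if i = 6 then 1 else 0) ∧
      i.choose 3 = 4 * (if i = 4 then 1 else 0) + 20 * (if i = 6 then 1 else 0) := by decide
  have hle : ∀ b ∈ bl B, (b ∩ y).card < 7 := by
    intro b hb
    rw [mem_bl] at hb
    have := card_le_card (inter_subset_left : b ∩ y ⊆ b)
    rw [hB.1 b hb] at this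
    omega
  have h1 : ∑ b ∈ bl B, (2 * (b ∩ y).card.choose 2) = ∑ b ∈ bl B, ((b ∩ y).card.choose 1 + 8 * (if (b ∩ y).card = 4 then 1 else 0) + 24 * (if (b ∩ y).card = 6 then 1 else 0)) := by
    apply sum_congr rfl
    intro b hb
    exact (key _ (hle b hb) (hy b (mem_bl.1 hb))).1
  have h2 : ∑ b ∈ bl B, (b ∩ y).card.choose 3 = ∑ b ∈ bl B, (4 * (if (b ∩ y).card = 4 then 1 else 0) + 20 * (if (b ∩ y).card = 6 then 1 else 0)) := by
    apply sum_congr rfl
    intro b hb
    exact (key _ (hle b hb) (hy b (mem_bl.1 hb))).2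
  rw [sum_add_distrib, sum_add_distrib, ← mul_sum, ← mul_sum, ← mul_sum, ← card_filter, ← card_filter, m2, m1] at h1
  rw [sum_add_distrib, ← mul_sum, ← mul_sum, ← card_filter, ← card_filter, m3] at h2
  constructor
  · intro hlt
    by_contra hne
    have h3 : 0 < y.card := card_pos.2 (nonempty_iff_ne_empty.2 hne)
    have h4 : ∀ k < 6, 0 < k → 2 * (k.choose 2 * 5) < k.choose 1 * 21 := by decide
    have := h4 _ hlt h3
    omega
  · intro h6
    rw [h6] at h1 h2
    norm_num [Nat.choose] at h1 h2
    have h3 : (filter (fun b => (b ∩ y).card = 6) (bl B)).card = 1 := by omega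
    obtain ⟨b, hb⟩ := card_eq_one.1 h3
    have hb' : b ∈ (filter (fun b => (b ∩ y).card = 6) (bl B)) := by rw [hb]; exact mem_singleton_self b
    rw [mem_filter, mem_bl] at hb'
    have h4 : b ∩ y = b := eq_of_subset_of_card_le inter_subset_left (by rw [hb'.2, hB.1 b hb'.1])
    have h5 : b ∩ y = y := eq_of_subset_of_card_le inter_subset_right (by rw [hb'.2, h6])
    rw [← h5, h4]; exact hb'.1

/-- words meeting all blocks oddly -/
theorem odd_words {y : Finset α} (hy : ∀ b ∈ B, (b ∩ y).card % 2 = 1) : y.card = 7 ∨ y.card = 11 ∨ y.card = 15 := by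
  have m3 := moment_all hB y (fun Y hY => (lam3 hα hB Y).1 hY)
  have m2 := moment_all hB y (fun Y hY => (lam3 hα hB Y).2.1 hY)
  have m1 := moment_all hB y (fun Y hY => (lam3 hα hB Y).2.2.1 hY)
  have m0 := moment_all hB y (fun Y hY => (lam3 hα hB Y).2.2.2 hY)
  have key : ∀ i < 7, i % 2 = 1 → 6 * i.choose 3 + 15 * i.choose 1 = 12 * i.choose 2 + 15 * i.choose 0 := by decide
  have hle : ∀ b ∈ bl B, (b ∩ y).card < 7 := by
    intro b hb
    rw [mem_bl] at hb
    have := card_le_card (inter_subset_left : b ∩ y ⊆ b)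
    rw [hB.1 b hb] at this
    omega
  have h1 : ∑ b ∈ bl B, (6 * (b ∩ y).card.choose 3 + 15 * (b ∩ y).card.choose 1) =
      ∑ b ∈ bl B, (12 * (b ∩ y).card.choose 2 + 15 * (b ∩ y).card.choose 0) := by
    apply sum_congr rfl
    intro b hb
    exact key _ (hle b hb) (hy b (mem_bl.1 hb))
  rw [sum_add_distrib, sum_add_distrib, ← mul_sum, ← mul_sum, ← mul_sum, ← mul_sum, m3, m2, m1, m0] at h1
  have h2 : y.card < 23 := by
    have := card_le_univ y
    omega
  have h3 : ∀ k < 23, 6 * (k.choose 3 * 1) + 15 * (k.choose 1 * 21) = 12 * (k.choose 2 * 5) + 15 * (k.choose 0 * 77) →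
      k = 7 ∨ k = 11 ∨ k = 15 := by decide
  exact h3 _ h2 h1

theorem mem_dual_B (y : Finset α) : ind y ∈ dualC (spanC B) ↔ ∀ b ∈ B, (b ∩ y).card % 2 = 0 := by
  rw [mem_dual_span]
  constructor
  · intro h b hb
    have := (dot_ind_iff _ _).1 (h b hb)
    omega
  · intro h b hb
    rw [dot_ind_iff]
    have := h b hb
    omega

/-- the span of the blocks is self dual, and there is a vector meeting all blocks oddly -/
theorem selfdual22 : dualC (spanC B) = spanC B ∧ ∃ v : Finset α, ∀ b ∈ B, (b ∩ v).card % 2 = 1 := by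
  set G0 : Set (Finset α) := {s | ∃ b ∈ B, ∃ c ∈ B, s = symmDiff b c} with hG0
  have hD := even3 hα hB
  have hsub : spanC G0 ≤ spanC B := by
    rw [spanC, Submodule.span_le]
    rintro _ ⟨_, ⟨b, hb, c, hc, rfl⟩, rfl⟩
    rw [ind_symm]
    exact (spanC B).add_mem (ind_mem_spanC hb) (ind_mem_spanC hc)
  have h4 : ∀ s : Finset α, ind s ∈ spanC G0 → 4 ∣ s.card := by
    intro s hs
    apply dbl_even (G := G0) _ _ hs
    · rintro _ ⟨b, hb, c, hc, rfl⟩ _ ⟨b', hb', c', hc', rfl⟩
      apply inter_span hD
      · rw [ind_symm]; exact (spanC B).add_mem (ind_mem_spanC hb) (ind_mem_spanC hc)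
      · rw [ind_symm]; exact (spanC B).add_mem (ind_mem_spanC hb') (ind_mem_spanC hc')
    · rintro _ ⟨b, hb, c, hc, rfl⟩
      have h1 := card_symm b c
      have h2 := hB.1 b hb
      have h3 := hB.1 c hc
      have h4 := hD b hb c hc
      omega
  obtain ⟨b0, hb0, -⟩ := exists_block hB (F := ∅) (by simp) (by omega)
  have hb0G : ind b0 ∉ spanC G0 := by
    intro h
    have := h4 _ h
    rw [hB.1 b0 hb0] at this
    omega
  have hlt : spanC G0 < spanC B := lt_of_le_of_ne hsub (fun h => hb0G (h ▸ ind_mem_spanC hb0))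
  have hf1 := Submodule.finrank_lt_finrank_of_lt hlt
  have hf2 := finrank_dualC (spanC G0)
  have hf3 := finrank_dualC (spanC B)
  have hf4 := Submodule.finrank_mono (self_orth hD)
  rw [hα] at hf2 hf3
  -- H
  have hH : ∀ y : Finset α, ind y ∈ dualC (spanC G0) → (∀ b ∈ B, (b ∩ y).card % 2 = 0) ∨ (∀ b ∈ B, (b ∩ y).card % 2 = 1) := by
    intro y hy
    have h1 : ∀ b ∈ B, (b ∩ y).card % 2 = (b0 ∩ y).card % 2 := by
      intro b hb
      have h2 := mem_dual_span.1 hy _ ⟨b, hb, b0, hb0, rfl⟩
      rw [ind_symm, add_dotProduct, dot_ind, dot_ind, ← Nat.cast_add] at h2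
      rw [ZMod.natCast_eq_zero_iff] at h2
      omega
    rcases Nat.mod_two_eq_zero_or_one (b0 ∩ y).card with h0 | h0
    · left; intro b hb; rw [h1 b hb, h0]
    · right; intro b hb; rw [h1 b hb, h0]
  have hHmin : ∀ y : Finset α, ind y ∈ dualC (spanC G0) → (y.card < 6 → y = ∅) ∧ (y.card = 6 → y ∈ B) := by
    intro y hy
    rcases hH y hy with h | h
    · exact even_words hα hB h
    · have := odd_words hα hB h
      constructor <;> intro h' <;> omega
  have hcard : (fam (dualC (spanC G0))).card ≤ 4096 := by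
    apply sphere hα
    · intro a ha b hb
      rw [mem_fam] at ha hb ⊢
      rw [ind_symm]; exact Submodule.add_mem _ ha hb
    · intro a ha hlt
      exact (hHmin a (mem_fam.1 ha)).1 hlt
    · intro a ha b hb ha6 hb6 h3
      have h1 := (hHmin a (mem_fam.1 ha)).2 ha6
      have h2 := (hHmin b (mem_fam.1 hb)).2 hb6
      exact block_eq hB h1 h2 inter_subset_left inter_subset_right h3
  rw [card_fam] at hcard
  have hr : Module.finrank (ZMod 2) (dualC (spanC G0)) ≤ 12 := by
    by_contra hn
    have h1 : 2 ^ 13 ≤ 2 ^ Module.finrank (ZMod 2) (dualC (spanC G0)) := Nat.pow_le_pow_right (by norm_num) (by omega)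
    have := h1.trans hcard
    norm_num at this
  refine ⟨?_, ?_⟩
  · symm
    apply Submodule.eq_of_le_of_finrank_eq (self_orth hD)
    omega
  · -- the dual of the even part is larger
    have h5 : ¬ dualC (spanC G0) ≤ dualC (spanC B) := by
      intro h
      have := Submodule.finrank_mono h
      omega
    rw [SetLike.not_le_iff_exists] at h5
    obtain ⟨v, hv, hv'⟩ := h5
    refine ⟨support₂ v, ?_⟩
    rcases hH (support₂ v) (by rw [ind_support]; exact hv) with h | h
    · exfalso
      apply hv'
      rw [← ind_support v, mem_dual_B hα hB]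
      exact h
    · exact h

end Cfsg.Agent.Stn
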