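import Cfsg.Agent.Stn.Ext22

/-!
# Extension of S(3, 6, 22) to the Golay code, part 2
-/

set_option autoImplicit false

namespace Cfsg.Agent.Stn

open Finset Matrix

variable {α : Type*} [Fintype α] [DecidableEq α]

/-- doubly extended block -/
def ext2 (b : Finset α) : Finset (Option (Option α)) := ext1 (ext1 b)

/-- extended odd vector -/
def extV (v : Finset α) : Finset (Option (Option α)) := ext1 (v.map Function.Embedding.some)

/-- the part on α -/
def low (x : Finset (Option (Option α))) : Finset α := eraseNone (eraseNone x)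

omit [Fintype α] in
theorem map_some_inter (v : Finset α) (z : Finset (Option α)) : (v.map Function.Embedding.some ∩ z).card = (v ∩ eraseNone z).card := by
  have h : (v.map Function.Embedding.some ∩ z) = (v ∩ eraseNone z).map Function.Embedding.some := by
    ext x
    rcases x with _ | x
    · simp
    · simp [mem_eraseNone]
  rw [h, card_map]

omit [Fintype α] in
theorem ext2_inter_card (b : Finset α) (x : Finset (Option (Option α))) :
    (ext2 b ∩ x).card = (b ∩ low x).card + (if some none ∈ x then 1 else 0) + if none ∈ x then 1 else 0 := by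
  rw [ext2, ext1_inter_card, ext1_inter_card]
  simp only [mem_eraseNone]
  rfl

omit [Fintype α] in
theorem extV_inter_card (v : Finset α) (x : Finset (Option (Option α))) :
    (extV v ∩ x).card = (v ∩ low x).card + if none ∈ x then 1 else 0 := by
  rw [extV, ext1_inter_card, map_some_inter]
  rfl

omit [Fintype α] in
theorem card_low (x : Finset (Option (Option α))) :
    x.card = (low x).card + (if some none ∈ x then 1 else 0) + if none ∈ x then 1 else 0 := by
  have h : ∀ {γ : Type _} [DecidableEq γ] (x : Finset (Option γ)), x.card = (eraseNone x).card + if none ∈ x then 1 else 0 := by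
    intro γ _ x
    split_ifs with h
    · have : 0 < x.card := card_pos.2 ⟨_, h⟩
      rw [card_eraseNone_of_mem h]; omega
    · rw [card_eraseNone_of_not_mem h]; rfl
  rw [h x, h (eraseNone x)]
  simp only [mem_eraseNone]
  rfl

omit [Fintype α] in
theorem low_symm (x y : Finset (Option (Option α))) : low (symmDiff x y) = symmDiff (low x) (low y) := by
  ext a
  simp only [low, mem_eraseNone, mem_symmDiff]

omit [Fintype α] in
theorem low_ext2 (b : Finset α) : low (ext2 b) = b := by
  ext a
  simp [low, ext2, ext1, mem_eraseNone]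

omit [Fintype α] in
theorem low_extV (b : Finset α) : low (extV b) = b := by
  ext a
  simp [low, extV, ext1, mem_eraseNone]

omit [Fintype α] in
theorem none_ext2 (b : Finset α) : none ∈ ext2 b := by simp [ext2, ext1]
omit [Fintype α] in
theorem some_ext2 (b : Finset α) : some none ∈ ext2 b := by simp [ext2, ext1]
omit [Fintype α] in
theorem none_extV (b : Finset α) : none ∈ extV b := by simp [extV, ext1]
omit [Fintype α] in
theorem some_extV (b : Finset α) : some none ∉ extV b := by simp [extV, ext1]

omit [Fintype α] in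
theorem eq_of_low {x y : Finset (Option (Option α))} (h : low x = low y) (h1 : none ∈ x ↔ none ∈ y) (h2 : some none ∈ x ↔ some none ∈ y) :
    x = y := by
  ext a
  rcases a with _ | _ | a
  · exact h1
  · exact h2
  · have := Finset.ext_iff.1 h a
    simpa only [low, mem_eraseNone] using this

/-- generators of the extended code -/
def G22 (B : Set (Finset α)) (v : Finset α) : Set (Finset (Option (Option α))) := ext2 '' B ∪ {extV v}

variable {B : Set (Finset α)} (hα : Fintype.card α = 22) (hB : IsSteinerSystem 3 6 B) {v : Finset α}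
  (hv : ∀ b ∈ B, (b ∩ v).card % 2 = 1)
include hα hB hv

theorem G22_even : ∀ b ∈ G22 B v, ∀ c ∈ G22 B v, 2 ∣ (b ∩ c).card := by
  have hV : (extV v ∩ extV v).card = v.card + 1 := by
    rw [extV_inter_card, low_extV, if_pos (none_extV v), inter_self]
  have hBV : ∀ b ∈ B, 2 ∣ (ext2 b ∩ extV v).card := by
    intro b hb
    rw [ext2_inter_card, low_extV, if_pos (none_extV v), if_neg (some_extV v)]
    have := hv b hb
    omega
  rintro b (⟨b, hb, rfl⟩ | hb) c (⟨c, hc, rfl⟩ | hc)
  · rw [ext2_inter_card, low_ext2, if_pos (none_ext2 c), if_pos (some_ext2 c)]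
    have := even3 hα hB b hb c hc
    omega
  · rw [Set.mem_singleton_iff] at hc
    rw [hc]; exact hBV b hb
  · rw [Set.mem_singleton_iff] at hb
    rw [hb, inter_comm]; exact hBV c hc
  · rw [Set.mem_singleton_iff] at hb hc
    rw [hb, hc, hV]
    rcases odd_words hα hB hv with h | h | h <;> omega

theorem lift22 {y : Finset α} (hy : ind y ∈ spanC B) : ∃ z : Finset (Option (Option α)), ind z ∈ spanC (G22 B v) ∧
    low z = y ∧ (none ∈ z ↔ some none ∈ z) := by
  apply spanC_ind (P := fun y => ∃ z : Finset (Option (Option α)), ind z ∈ spanC (G22 B v) ∧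
    low z = y ∧ (none ∈ z ↔ some none ∈ z)) _ _ _ hy
  · refine ⟨∅, ?_, ?_, ?_⟩
    · rw [ind_empty]; exact Submodule.zero_mem _
    · ext a; simp [low]
    · simp
  · intro b hb
    exact ⟨ext2 b, ind_mem_spanC (Or.inl ⟨b, hb, rfl⟩), low_ext2 b, ⟨fun _ => some_ext2 b, fun _ => none_ext2 b⟩⟩
  · rintro s t _ _ ⟨z, h1, h2, h3⟩ ⟨z', h1', h2', h3'⟩
    refine ⟨symmDiff z z', ?_, ?_, ?_⟩
    · rw [ind_symm]; exact Submodule.add_mem _ h1 h1'
    · rw [low_symm, h2, h2']
    · rw [mem_symmDiff, mem_symmDiff, h3, h3']

theorem low_par {x : Finset (Option (Option α))} (hx : ind x ∈ dualC (spanC (G22 B v))) :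
    (∀ b ∈ B, ((b ∩ low x).card + (if some none ∈ x then 1 else 0) + (if none ∈ x then 1 else 0)) % 2 = 0) ∧
    ((v ∩ low x).card + if none ∈ x then 1 else 0) % 2 = 0 := by
  rw [mem_dual_span] at hx
  constructor
  · intro b hb
    have := (dot_ind_iff _ _).1 (hx _ (Or.inl ⟨b, hb, rfl⟩))
    rw [ext2_inter_card] at this
    omega
  · have := (dot_ind_iff _ _).1 (hx _ (Or.inr (Set.mem_singleton _)))
    rw [extV_inter_card] at this
    omega

theorem dual22 : dualC (spanC (G22 B v)) ≤ spanC (G22 B v) := by
  have hself := self_orth (G22_even hα hB hv)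
  have case1 : ∀ x : Finset (Option (Option α)), ind x ∈ dualC (spanC (G22 B v)) → (none ∈ x ↔ some none ∈ x) →
      ind x ∈ spanC (G22 B v) := by
    intro x hx hiff
    obtain ⟨h1, h2⟩ := low_par hα hB hv hx
    have h3 : ind (low x) ∈ spanC B := by
      rw [← (selfdual22 hα hB).1, mem_dual_B hα hB]
      intro b hb
      have := h1 b hb
      by_cases hn : none ∈ x
      · rw [if_pos hn, if_pos (hiff.1 hn)] at this; omega
      · rw [if_neg hn, if_neg (fun h => hn (hiff.2 h))] at this; omega
    obtain ⟨z, hz1, hz2, hz3⟩ := lift22 hα hB hv h3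
    obtain ⟨-, h4⟩ := low_par hα hB hv (hself hz1)
    rw [hz2] at h4
    have h5 : none ∈ x ↔ none ∈ z := by
      by_cases ha : none ∈ x <;> by_cases hb : none ∈ z
      · exact ⟨fun _ => hb, fun _ => ha⟩
      · rw [if_pos ha] at h2; rw [if_neg hb] at h4; omega
      · rw [if_neg ha] at h2; rw [if_pos hb] at h4; omega
      · exact ⟨fun h => absurd h ha, fun h => absurd h hb⟩
    have h6 : x = z := eq_of_low hz2.symm h5 (by rw [← hiff, ← hz3, h5])
    rw [h6]; exact hz1
  intro w hw
  rw [← ind_support w] at hw ⊢
  by_cases hiff : (none ∈ support₂ w ↔ some none ∈ support₂ w)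
  · exact case1 _ hw hiff
  · have hV : ind (extV v) ∈ spanC (G22 B v) := ind_mem_spanC (Or.inr (Set.mem_singleton _))
    have h1 : ind (symmDiff (support₂ w) (extV v)) ∈ spanC (G22 B v) := by
      apply case1
      · rw [ind_symm]; exact Submodule.add_mem _ hw (hself hV)
      · rw [mem_symmDiff, mem_symmDiff]
        have h2 := none_extV v
        have h3 := some_extV v
        tauto
    have h2 := Submodule.add_mem _ h1 hV
    rw [ind_symm, add_assoc, ind_add_self, add_zero] at h2
    exact h2

theorem fam3 : Fam (fam (spanC (G22 B v))) := by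
  have hev := G22_even hα hB hv
  have h4 : ∀ b ∈ G22 B v, 4 ∣ b.card := by
    rintro b (⟨b, hb, rfl⟩ | hb)
    · rw [card_low, low_ext2, if_pos (none_ext2 b), if_pos (some_ext2 b), hB.1 b hb]; norm_num
    · rw [Set.mem_singleton_iff] at hb
      rw [hb, card_low, low_extV, if_pos (none_extV v), if_neg (some_extV v)]
      rcases odd_words hα hB hv with h | h | h <;> rw [h] <;> norm_num
  have heq : dualC (spanC (G22 B v)) = spanC (G22 B v) := le_antisymm (dual22 hα hB hv) (self_orth hev)
  have hcard : Fintype.card (Option (Option α)) = 24 := by rw [Fintype.card_option, Fintype.card_option, hα]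
  have hdim : Module.finrank (ZMod 2) (spanC (G22 B v)) = 12 := by
    have := finrank_dualC (spanC (G22 B v))
    rw [heq, hcard] at this
    omega
  refine Fam.of_code hcard hdim (fun s hs => dbl_even hev h4 hs) ?_
  intro s hs hs4
  have h1 : ind s ∈ dualC (spanC (G22 B v)) := self_orth hev hs
  obtain ⟨h2, -⟩ := low_par hα hB hv h1
  have h3 := card_low s
  have h5 : (low s).card < 6 := by rw [hs4] at h3; omega
  have h6 : 2 ≤ (low s).card := by
    rw [hs4] at h3
    split_ifs at h3 <;> omega
  have h7 : (∀ b ∈ B, (b ∩ low s).card % 2 = 0) ∨ (∀ b ∈ B, (b ∩ low s).card % 2 = 1) := by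
    by_cases ha : none ∈ s <;> by_cases hb : some none ∈ s
    · left; intro b hb'; have := h2 b hb'; rw [if_pos ha, if_pos hb] at this; omega
    · right; intro b hb'; have := h2 b hb'; rw [if_pos ha, if_neg hb] at this; omega
    · right; intro b hb'; have := h2 b hb'; rw [if_neg ha, if_pos hb] at this; omega
    · left; intro b hb'; have := h2 b hb'; rw [if_neg ha, if_neg hb] at this; omega
  rcases h7 with h7 | h7
  · have := (even_words hα hB h7).1 h5
    rw [this, card_empty] at h6
    omega
  · have := odd_words hα hB h7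
    omega

theorem block3_iff (X : Finset α) : X ∈ B ↔ ind (ext2 X) ∈ spanC (G22 B v) ∧ X.card = 6 := by
  constructor
  · intro h; exact ⟨ind_mem_spanC (Or.inl ⟨X, h, rfl⟩), hB.1 X h⟩
  · rintro ⟨h1, h2⟩
    obtain ⟨h3, -⟩ := low_par hα hB hv (self_orth (G22_even hα hB hv) h1)
    apply (even_words hα hB _).2 h2
    intro b hb
    have := h3 b hb
    rw [low_ext2, if_pos (none_ext2 X), if_pos (some_ext2 X)] at this
    omega

end Cfsg.Agent.Stn
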