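import Cfsg.Agent.Stn.Dodec

/-!
# Uniqueness of Golay families
-/

set_option autoImplicit false

namespace Cfsg.Agent.Stn

open Finset

/-- index type of a frame -/
abbrev Idx : Type := Option (Fin 11) ⊕ Option (Fin 11)

/-- the complementary dodecad -/
def gD : Finset Idx := univ.filter fun x => x.isRight = true

/-- membership in the generating octads -/
def gcB (i : Fin 11) : Idx → Bool
  | Sum.inl none => true
  | Sum.inl (some k) => decide (k = i)
  | Sum.inr none => true
  | Sum.inr (some j) => incM cls1 i j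

/-- the generating octads -/
def gc (i : Fin 11) : Finset Idx := univ.filter fun x => gcB i x = true

section transport
variable {α β : Type*} [Fintype α] [DecidableEq α] [Fintype β] [DecidableEq β]

/-- transported family -/
def tr (t : α ≃ β) (S : Finset (Finset α)) : Finset (Finset β) := S.map t.finsetCongr.toEmbedding

omit [Fintype α] [DecidableEq α] [Fintype β] [DecidableEq β] in
theorem mem_tr (t : α ≃ β) (S : Finset (Finset α)) (x : Finset β) : x ∈ tr t S ↔ x.map t.symm.toEmbedding ∈ S := by
  rw [tr, mem_map_equiv]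
  rfl

omit [Fintype α] [Fintype β] in
theorem map_symm (t : α ≃ β) (a b : Finset α) :
    (symmDiff a b).map t.toEmbedding = symmDiff (a.map t.toEmbedding) (b.map t.toEmbedding) := by
  ext x
  simp only [mem_map_equiv, mem_symmDiff]

theorem Fam.tr {S : Finset (Finset α)} (h : Fam S) (t : α ≃ β) : Fam (tr t S) where
  pts := by rw [← Fintype.card_congr t]; exact h.pts
  zero := by rw [mem_tr, map_empty]; exact h.zero
  add := by
    intro a ha b hb
    rw [mem_tr] at ha hb ⊢
    rw [map_symm]
    exact h.add _ ha _ hb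
  card := by rw [Stn.tr, card_map]; exact h.card
  four := by
    intro a ha
    rw [mem_tr] at ha
    have := h.four _ ha
    rwa [card_map] at this
  ne4 := by
    intro a ha
    rw [mem_tr] at ha
    have := h.ne4 _ ha
    rwa [card_map] at this

end transport

theorem Fam.sub_of_gens {S1 S2 : Finset (Finset Idx)} (h1 : Fam S1) (h2 : Fam S2)
    (hD1 : gD ∈ S1) (hc1 : ∀ i, gc i ∈ S1) (hD2 : gD ∈ S2) (hc2 : ∀ i, gc i ∈ S2) : S1 ⊆ S2 := by
  have key : ∀ n (x : Finset Idx), x ∈ S1 → (x.filter fun y => ∃ i, y = Sum.inl (some i)).card = n → x ∈ S2 := by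
    intro n
    induction n with
    | zero =>
      intro x hx hn
      rw [card_eq_zero, filter_eq_empty_iff] at hn
      have hD : gDᶜ ∈ S1 := h1.compl_mem hD1
      have hD12 : (gDᶜ : Finset Idx).card = 12 := by decide
      have h3 := h1.inter_even hx hD
      have h4 : x ∩ gDᶜ ⊆ {Sum.inl none} := by
        intro y hy
        rw [mem_inter, mem_compl, gD, mem_filter] at hy
        rw [mem_singleton]
        rcases y with (_ | i) | j
        · rfl
        · exact absurd ⟨i, rfl⟩ (hn hy.1)
        · exact absurd ⟨mem_univ _, rfl⟩ hy.2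
      have h5 : x ∩ gDᶜ = ∅ := by
        have := card_le_card h4
        rw [card_singleton] at this
        rw [← card_eq_zero]
        omega
      rcases h1.sub_compl hD hD12 hx h5 with h6 | h6
      · rw [h6]; exact h2.zero
      · rw [h6, compl_compl]; exact hD2
    | succ n ih =>
      intro x hx hn
      obtain ⟨y, hy⟩ : (x.filter fun y => ∃ i, y = Sum.inl (some i)).Nonempty := card_pos.1 (by omega)
      have hy' := hy
      rw [mem_filter] at hy'
      obtain ⟨hyx, i, rfl⟩ := hy'
      have h3 : symmDiff x (gc i) ∈ S2 := by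
        apply ih _ (h1.add _ hx _ (hc1 i))
        have h4 : ((symmDiff x (gc i)).filter fun y => ∃ i, y = Sum.inl (some i)) =
            (x.filter fun y => ∃ i, y = Sum.inl (some i)).erase (Sum.inl (some i)) := by
          ext y
          rw [mem_erase, mem_filter, mem_filter, mem_symmDiff]
          constructor
          · rintro ⟨h5, k, rfl⟩
            have h6 : (Sum.inl (some k) : Idx) ∈ gc i ↔ k = i := by
              rw [gc, mem_filter]; simp [gcB]
            rw [h6] at h5
            rcases h5 with h5 | h5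
            · exact ⟨fun h7 => h5.2 (by injection h7 with h8; injection h8), h5.1, k, rfl⟩
            · rw [h5.1] at h5; exact absurd hyx h5.2
          · rintro ⟨h5, h7, k, rfl⟩
            have h6 : (Sum.inl (some k) : Idx) ∈ gc i ↔ k = i := by
              rw [gc, mem_filter]; simp [gcB]
            refine ⟨Or.inl ⟨h7, fun h8 => h5 (by rw [h6.1 h8])⟩, k, rfl⟩
        rw [h4, card_erase_of_mem hy]
        omega
      have h5 := h2.add _ h3 _ (hc2 i)
      rwa [symmDiff_symmDiff_cancel_right] at h5
  intro x hx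
  exact key _ x hx rfl

theorem Fam.eq_of_gens {S1 S2 : Finset (Finset Idx)} (h1 : Fam S1) (h2 : Fam S2)
    (hD1 : gD ∈ S1) (hc1 : ∀ i, gc i ∈ S1) (hD2 : gD ∈ S2) (hc2 : ∀ i, gc i ∈ S2) : S1 = S2 :=
  eq_of_subset_of_card_le (h1.sub_of_gens h2 hD1 hc1 hD2 hc2) (by rw [h1.card, h2.card])

section
variable {α : Type*} [Fintype α] [DecidableEq α] {S : Finset (Finset α)}

theorem card_sub (q : α → Prop) [DecidablePred q] (X Y : Finset α) (hY : ∀ x, x ∈ Y ↔ q x ∧ x ∈ X) :
    (univ.filter fun j : {x // q x} => j.1 ∈ X).card = Y.card := by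
  rw [← card_map (Function.Embedding.subtype q)]
  congr 1
  ext x
  rw [mem_map]
  simp only [mem_filter, mem_univ, true_and, Function.Embedding.subtype_apply, Subtype.exists, exists_and_left, exists_prop, exists_eq_right_right]
  rw [hY x, and_comm]

theorem Fam.frame (h : Fam S) (p : α) : ∃ t : Idx ≃ α, t (Sum.inl none) = p ∧ gD.map t.toEmbedding ∈ S ∧
    ∀ i, (gc i).map t.toEmbedding ∈ S := by
  obtain ⟨D, hD, hD12, hpD⟩ := h.dodecad p
  have hDc : Dᶜ ∈ S := h.compl_mem hD
  have hDc12 : Dᶜ.card = 12 := by rw [card_compl, h.pts, hD12]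
  obtain ⟨e, heD⟩ : Dᶜ.Nonempty := card_pos.1 (by omega)
  have heD' : e ∉ D := mem_compl.1 heD
  have hpD' : p ∉ Dᶜ := by rw [mem_compl, not_not]; exact hpD
  -- types
  have hI : Fintype.card {x // x ∈ D ∧ x ≠ p} = 11 := by
    rw [Fintype.card_subtype]
    have : (univ.filter fun x => x ∈ D ∧ x ≠ p) = D.erase p := by ext x; simp [and_comm]
    rw [this, card_erase_of_mem hpD, hD12]
  have hJ : Fintype.card {x // x ∈ Dᶜ ∧ x ≠ e} = 11 := by
    rw [Fintype.card_subtype]
    have : (univ.filter fun x => x ∈ Dᶜ ∧ x ≠ e) = Dᶜ.erase e := by ext x; simp [and_comm]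
    rw [this, card_erase_of_mem heD, hDc12]
  have hc : ∀ i : {x // x ∈ D ∧ x ≠ p}, ∃ c ∈ S, c ∩ D = {p, i.1} ∧ e ∈ c := fun i =>
    h.pair_word hD hD12 hpD i.2.1 i.2.2.symm heD'
  choose c hcS hcD hec using hc
  have hf : ∀ j : {x // x ∈ Dᶜ ∧ x ≠ e}, ∃ f ∈ S, f ∩ Dᶜ = {e, j.1} ∧ p ∈ f := fun j =>
    h.pair_word hDc hDc12 heD j.2.1 j.2.2.symm hpD'
  choose f hfS hfD hpf using hf
  have hinc : ∀ i j, j.1 ∈ c i ↔ i.1 ∈ f j := fun i j =>
    h.inc hD hD12 i.2.2 j.2.2 (hcS i) (hcD i) (hec i) (hfS j) (hfD j) (hpf j)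
  obtain ⟨g, k, hgk⟩ := biplane (fun (i : {x // x ∈ D ∧ x ≠ p}) (j : {x // x ∈ Dᶜ ∧ x ≠ e}) => decide (j.1 ∈ c i)) hI hJ
    (by
      intro i
      simp only [decide_eq_true_iff]
      rw [card_sub (fun x => x ∈ Dᶜ ∧ x ≠ e) (c i) ((c i ∩ Dᶜ).erase e)]
      · rw [card_erase_of_mem (mem_inter.2 ⟨hec i, heD⟩), (h.two_card hD hD12 (hcS i) (by rw [hcD, card_pair i.2.2.symm])).2]
      · intro x; rw [mem_erase, mem_inter]; tauto)
    (by
      intro j
      simp only [decide_eq_true_iff, hinc]
      rw [card_sub (fun x => x ∈ D ∧ x ≠ p) (f j) ((f j ∩ D).erase p)]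
      · have := (h.two_card hDc hDc12 (hfS j) (by rw [hfD, card_pair j.2.2.symm])).2
        rw [compl_compl] at this
        rw [card_erase_of_mem (mem_inter.2 ⟨hpf j, hpD⟩), this]
      · intro x; rw [mem_erase, mem_inter]; tauto)
    (by
      intro i i' hii'
      have e1 : (univ.filter fun j : {x // x ∈ Dᶜ ∧ x ≠ e} => (decide (j.1 ∈ c i) && decide (j.1 ∈ c i')) = true) =
          (univ.filter fun j : {x // x ∈ Dᶜ ∧ x ≠ e} => j.1 ∈ c i ∩ c i') := by
        ext j; simp
      rw [e1, card_sub (fun x => x ∈ Dᶜ ∧ x ≠ e) (c i ∩ c i') ((c i ∩ c i' ∩ Dᶜ).erase e)]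
      · rw [card_erase_of_mem (mem_inter.2 ⟨mem_inter.2 ⟨hec i, hec i'⟩, heD⟩),
          h.meet hD hD12 (fun e => hii' (Subtype.ext e)) i.2.2 i'.2.2 (hcS i) (hcD i) (hcS i') (hcD i')]
      · intro x; rw [mem_erase, mem_inter]; tauto)
    (by
      intro j j' hjj'
      have e1 : (univ.filter fun i : {x // x ∈ D ∧ x ≠ p} => (decide (j.1 ∈ c i) && decide (j'.1 ∈ c i)) = true) =
          (univ.filter fun i : {x // x ∈ D ∧ x ≠ p} => i.1 ∈ f j ∩ f j') := by
        ext i; simp [hinc]
      rw [e1, card_sub (fun x => x ∈ D ∧ x ≠ p) (f j ∩ f j') ((f j ∩ f j' ∩ D).erase p)]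
      · have := h.meet hDc hDc12 (fun e => hjj' (Subtype.ext e)) j.2.2 j'.2.2 (hfS j) (hfD j) (hfS j') (hfD j')
        rw [compl_compl] at this
        rw [card_erase_of_mem (mem_inter.2 ⟨mem_inter.2 ⟨hpf j, hpf j'⟩, hpD⟩), this]
      · intro x; rw [mem_erase, mem_inter]; tauto)
  -- the frame
  let t0 : Idx → α := Sum.elim (fun o => o.elim p (fun i => (g i).1)) (fun o => o.elim e (fun j => (k j).1))
  have ht0l : ∀ o, t0 (Sum.inl o) ∈ D := by
    rintro (_ | i)
    · exact hpD
    · exact (g i).2.1
  have ht0r : ∀ o, t0 (Sum.inr o) ∈ Dᶜ := by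
    rintro (_ | i)
    · exact heD
    · exact (k i).2.1
  have hbij : Function.Bijective t0 := by
    rw [Fintype.bijective_iff_injective_and_card]
    refine ⟨?_, by rw [h.pts]; rfl⟩
    rintro (a | a) (b | b) hab
    · congr 1
      rcases a with _ | a <;> rcases b with _ | b
      · rfl
      · exact absurd hab.symm (g b).2.2
      · exact absurd hab (g a).2.2
      · have : g a = g b := Subtype.ext hab
        rw [g.injective this]
    · have h1 := ht0l a
      have h2 := ht0r b
      rw [← hab, mem_compl] at h2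
      exact absurd h1 h2
    · have h1 := ht0l b
      have h2 := ht0r a
      rw [hab, mem_compl] at h2
      exact absurd h1 h2
    · congr 1
      rcases a with _ | a <;> rcases b with _ | b
      · rfl
      · exact absurd hab.symm (k b).2.2
      · exact absurd hab (k a).2.2
      · have : k a = k b := Subtype.ext hab
        rw [k.injective this]
  let t := Equiv.ofBijective t0 hbij
  refine ⟨t, rfl, ?_, ?_⟩
  · have : gD.map t.toEmbedding = Dᶜ := by
      ext x
      rw [mem_map_equiv]
      obtain ⟨y, rfl⟩ := t.surjective x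
      rw [Equiv.symm_apply_apply, gD, mem_filter]
      rcases y with y | y
      · constructor
        · intro h1; exact absurd h1.2 (by simp)
        · intro h1; exact absurd (ht0l y) (mem_compl.1 h1)
      · exact ⟨fun _ => ht0r y, fun _ => ⟨mem_univ _, rfl⟩⟩
    rw [this]
    exact hDc
  · intro i
    have : (gc i).map t.toEmbedding = c (g i) := by
      ext x
      rw [mem_map_equiv]
      obtain ⟨y, rfl⟩ := t.surjective x
      rw [Equiv.symm_apply_apply, gc, mem_filter]
      have e1 : ∀ x, x ∈ c (g i) ∩ D ↔ x ∈ ({p, (g i).1} : Finset α) := fun x => by rw [hcD]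
      simp only [mem_inter, mem_insert, mem_singleton] at e1
      rcases y with (_ | y) | (_ | y)
      · show _ ↔ p ∈ c (g i)
        exact ⟨fun _ => ((e1 p).2 (Or.inl rfl)).1, fun _ => ⟨mem_univ _, rfl⟩⟩
      · show _ ↔ (g y).1 ∈ c (g i)
        constructor
        · rintro ⟨_, h1⟩
          have : y = i := by simpa [gcB] using h1
          rw [this]
          exact ((e1 _).2 (Or.inr rfl)).1
        · intro h1
          refine ⟨mem_univ _, ?_⟩
          rcases (e1 _).1 ⟨h1, (g y).2.1⟩ with h2 | h2
          · exact absurd h2 (g y).2.2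
          · have h3 : g y = g i := Subtype.ext h2
            simp [gcB, g.injective h3]
      · show _ ↔ e ∈ c (g i)
        exact ⟨fun _ => hec _, fun _ => ⟨mem_univ _, rfl⟩⟩
      · show _ ↔ (k y).1 ∈ c (g i)
        have h1 := hgk i y
        constructor
        · rintro ⟨_, h2⟩
          have h3 : incM cls1 i y = true := h2
          rw [h3, decide_eq_true_iff] at h1
          exact h1
        · intro h2
          refine ⟨mem_univ _, ?_⟩
          show incM cls1 i y = true
          rw [← h1, decide_eq_true_iff]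
          exact h2
    rw [this]
    exact hcS _

end

/-- the family of the frame -/
theorem Fam.unique {α β : Type*} [Fintype α] [DecidableEq α] [Fintype β] [DecidableEq β]
    {S : Finset (Finset α)} {S' : Finset (Finset β)} (h : Fam S) (h' : Fam S') (p : α) (p' : β) :
    ∃ φ : α ≃ β, φ p = p' ∧ ∀ x : Finset α, x ∈ S ↔ x.map φ.toEmbedding ∈ S' := by
  obtain ⟨t, ht, htD, htc⟩ := h.frame p
  obtain ⟨t', ht', htD', htc'⟩ := h'.frame p'
  have e := (h.tr t.symm).eq_of_gens (h'.tr t'.symm) (by rw [mem_tr]; exact htD) (fun i => by rw [mem_tr]; exact htc i)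
    (by rw [mem_tr]; exact htD') (fun i => by rw [mem_tr]; exact htc' i)
  refine ⟨t.symm.trans t', ?_, ?_⟩
  · rw [Equiv.trans_apply, ← ht, Equiv.symm_apply_apply, ht']
  · intro x
    have h1 : x.map t.symm.toEmbedding ∈ Stn.tr t.symm S ↔ x ∈ S := by
      rw [mem_tr, Finset.map_map]
      have : (t.symm.toEmbedding.trans t.symm.symm.toEmbedding) = Function.Embedding.refl _ := by
        ext y; simp
      rw [this, map_refl]
    rw [← h1, e, mem_tr, Finset.map_map]
    have : (t.symm.toEmbedding.trans t'.symm.symm.toEmbedding) = (t.symm.trans t').toEmbedding := by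
      ext y; simp
    rw [this]

end Cfsg.Agent.Stn
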