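import Cfsg.Agent.Stn.Steiner

/-!
# Codes spanned by blocks
-/

set_option autoImplicit false

namespace Cfsg.Agent.Stn

open Finset Matrix

variable {α : Type*} [Fintype α] [DecidableEq α]

omit [Fintype α] in
theorem ind_add_self (s : Finset α) : ind s + ind s = 0 := by
  rw [← ind_symm, symmDiff_self]; exact ind_empty

/-- code spanned by a family of sets -/
def spanC (G : Set (Finset α)) : Submodule (ZMod 2) (α → ZMod 2) := Submodule.span (ZMod 2) (ind '' G)

omit [Fintype α] in
theorem ind_mem_spanC {G : Set (Finset α)} {b : Finset α} (hb : b ∈ G) : ind b ∈ spanC G :=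
  Submodule.subset_span ⟨b, hb, rfl⟩

theorem support_add (x y : α → ZMod 2) : support₂ (x + y) = symmDiff (support₂ x) (support₂ y) := by
  apply ind_inj
  rw [ind_symm, ind_support, ind_support, ind_support]

theorem spanC_ind {G : Set (Finset α)} {P : Finset α → Prop} (h0 : P ∅) (hmem : ∀ b ∈ G, P b)
    (hadd : ∀ s t : Finset α, ind s ∈ spanC G → ind t ∈ spanC G → P s → P t → P (symmDiff s t))
    {s : Finset α} (hs : ind s ∈ spanC G) : P s := by
  have key : ∀ x ∈ spanC G, P (support₂ x) := by
    intro x hx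
    rw [spanC] at hx
    induction hx using Submodule.span_induction with
    | mem x hx =>
      obtain ⟨b, hb, rfl⟩ := hx
      rw [support_ind]; exact hmem b hb
    | zero => rw [← ind_empty (α := α), support_ind]; exact h0
    | add x y hx hy px py =>
      rw [support_add]
      apply hadd _ _ _ _ px py
      · rw [ind_support]; exact hx
      · rw [ind_support]; exact hy
    | smul a x hx px =>
      have : ∀ a : ZMod 2, a = 0 ∨ a = 1 := by decide
      rcases this a with rfl | rfl
      · rw [zero_smul, ← ind_empty (α := α), support_ind]; exact h0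
      · rw [one_smul]; exact px
  have := key _ hs
  rwa [support_ind] at this

theorem mem_dual_span {G : Set (Finset α)} {v : α → ZMod 2} :
    v ∈ dualC (spanC G) ↔ ∀ b ∈ G, ind b ⬝ᵥ v = 0 := by
  rw [mem_dualC]
  constructor
  · intro h b hb
    exact h _ (ind_mem_spanC hb)
  · intro h w hw
    rw [spanC] at hw
    induction hw using Submodule.span_induction with
    | mem x hx =>
      obtain ⟨b, hb, rfl⟩ := hx
      exact h b hb
    | zero => exact zero_dotProduct v
    | add x y hx hy px py => rw [add_dotProduct, px, py, add_zero]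
    | smul a x hx px => rw [smul_dotProduct, px, smul_zero]

theorem self_orth {G : Set (Finset α)} (h : ∀ b ∈ G, ∀ c ∈ G, 2 ∣ (b ∩ c).card) : spanC G ≤ dualC (spanC G) := by
  rw [spanC, Submodule.span_le]
  rintro _ ⟨b, hb, rfl⟩
  rw [SetLike.mem_coe]
  apply mem_dual_span.2
  intro c hc
  rw [dot_ind_iff]
  exact h c hc b hb

theorem inter_span {G : Set (Finset α)} (h : ∀ b ∈ G, ∀ c ∈ G, 2 ∣ (b ∩ c).card) {s t : Finset α}
    (hs : ind s ∈ spanC G) (ht : ind t ∈ spanC G) : 2 ∣ (s ∩ t).card := by
  rw [← dot_ind_iff]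
  exact mem_dualC.1 (self_orth h ht) _ hs

theorem dbl_even {G : Set (Finset α)} (h : ∀ b ∈ G, ∀ c ∈ G, 2 ∣ (b ∩ c).card) (h4 : ∀ b ∈ G, 4 ∣ b.card)
    {s : Finset α} (hs : ind s ∈ spanC G) : 4 ∣ s.card := by
  apply spanC_ind (P := fun s => 4 ∣ s.card) (by simp) h4 _ hs
  intro s t hs ht h1 h2
  have h3 := inter_span h hs ht
  have h4 := card_symm s t
  omega

theorem golay_of_cov {G : Set (Finset α)} (hα : Fintype.card α = 24)
    (h : ∀ b ∈ G, ∀ c ∈ G, 2 ∣ (b ∩ c).card) (h4 : ∀ b ∈ G, 4 ∣ b.card)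
    (hcov : ∀ x : Finset α, ∃ s : Finset α, s.card ≤ 4 ∧ ind (symmDiff x s) ∈ spanC G)
    (hd : ∀ s : Finset α, s.Nonempty → s.card ≤ 4 → ∃ b ∈ G, ¬ 2 ∣ (b ∩ s).card) : Fam (fam (spanC G)) := by
  have hdual : dualC (spanC G) ≤ spanC G := by
    intro v hv
    obtain ⟨s, hs, hx⟩ := hcov (support₂ v)
    rw [ind_symm, ind_support] at hx
    have h1 : ind s ∈ dualC (spanC G) := by
      have h2 := (dualC (spanC G)).sub_mem (self_orth h hx) hv
      rwa [add_sub_cancel_left] at h2
    rcases s.eq_empty_or_nonempty with rfl | hne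
    · rwa [ind_empty, add_zero] at hx
    · obtain ⟨b, hb, hodd⟩ := hd s hne hs
      exact absurd ((dot_ind_iff b s).1 (mem_dual_span.1 h1 b hb)) hodd
  have heq : dualC (spanC G) = spanC G := le_antisymm hdual (self_orth h)
  have hdim : Module.finrank (ZMod 2) (spanC G) = 12 := by
    have := finrank_dualC (spanC G)
    rw [heq, hα] at this
    omega
  refine Fam.of_code hα hdim (fun s hs => dbl_even h h4 hs) ?_
  intro s hs hs4
  have h1 : ind s ∈ dualC (spanC G) := self_orth h hs
  obtain ⟨b, hb, hodd⟩ := hd s (card_pos.1 (by omega)) hs4.le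
  exact absurd ((dot_ind_iff b s).1 (mem_dual_span.1 h1 b hb)) hodd

/-- a coset representative of smallest size -/
theorem exists_min_rep (C : Submodule (ZMod 2) (α → ZMod 2)) (x : Finset α) :
    ∃ s : Finset α, ind (symmDiff x s) ∈ C ∧ ∀ s' : Finset α, ind (symmDiff x s') ∈ C → s.card ≤ s'.card := by
  classical
  have hne : ((univ : Finset (Finset α)).filter fun s => ind (symmDiff x s) ∈ C).Nonempty := by
    refine ⟨x, ?_⟩
    rw [mem_filter, symmDiff_self]
    exact ⟨mem_univ _, by rw [show (⊥ : Finset α) = ∅ from rfl, ind_empty]; exact C.zero_mem⟩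
  obtain ⟨s, hs, hmin⟩ := exists_min_image _ Finset.card hne
  rw [mem_filter] at hs
  exact ⟨s, hs.2, fun s' hs' => hmin s' (mem_filter.2 ⟨mem_univ _, hs'⟩)⟩

theorem shift_rep {C : Submodule (ZMod 2) (α → ZMod 2)} {x s b : Finset α} (hs : ind (symmDiff x s) ∈ C)
    (hb : ind b ∈ C) : ind (symmDiff x (symmDiff s b)) ∈ C := by
  rw [← symmDiff_assoc, ind_symm]
  exact C.add_mem hs hb

/-! ### S(5, 8, 24) -/
section s24
variable {B : Set (Finset α)} (hα : Fintype.card α = 24) (hB : IsSteinerSystem 5 8 B)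
include hα hB

theorem even5 : ∀ b ∈ B, ∀ c ∈ B, 2 ∣ (b ∩ c).card := by
  intro b hb c hc
  by_cases hbc : b = c
  · subst hbc
    rw [inter_self, hB.1 b hb]; norm_num
  · rcases inter5 hα hB hc hb hbc with h | h | h <;> omega

theorem fam5 : Fam (fam (spanC B)) := by
  refine golay_of_cov hα (even5 hα hB) (fun b hb => by rw [hB.1 b hb]; norm_num) ?_ ?_
  · intro x
    obtain ⟨s, hs, hmin⟩ := exists_min_rep (spanC B) x
    refine ⟨s, ?_, hs⟩
    by_contra hlt
    obtain ⟨F, hFs, hF⟩ := exists_subset_card_eq (show 5 ≤ s.card by omega)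
    obtain ⟨b, hb, hFb⟩ := exists_block hB (F := F) hF.le (by omega)
    have h1 := hmin _ (shift_rep hs (ind_mem_spanC hb))
    have h2 := card_symm s b
    have h3 := hB.1 b hb
    have h4 := card_le_card (subset_inter hFs hFb)
    omega
  · intro s hne hs
    obtain ⟨b, hb, h1⟩ := both_par hB (by omega) (by omega) hne (by omega) 1 (by norm_num)
    exact ⟨b, hb, by omega⟩

theorem block5_iff (X : Finset α) : X ∈ B ↔ ind X ∈ spanC B ∧ X.card = 8 := by
  constructor
  · intro h; exact ⟨ind_mem_spanC h, hB.1 X h⟩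
  · rintro ⟨h1, h2⟩
    obtain ⟨F, hFX, hF⟩ := exists_subset_card_eq (show 5 ≤ X.card by omega)
    obtain ⟨b, hb, hFb⟩ := exists_block hB (F := F) hF.le (by omega)
    have h3 : X = b := by
      apply (fam5 hα hB).octad_eq (mem_fam.2 h1) (mem_fam.2 (ind_mem_spanC hb)) h2 (hB.1 b hb)
      rw [← hF]
      exact card_le_card (subset_inter hFX hFb)
    rw [h3]; exact hb

end s24

/-! ### S(4, 7, 23) -/

section s23
variable {B : Set (Finset α)} (hα : Fintype.card α = 23) (hB : IsSteinerSystem 4 7 B)

/-- extended block -/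
def ext1 (b : Finset α) : Finset (Option α) := insertNone b

omit [Fintype α] in
theorem ext1_card (b : Finset α) : (ext1 b).card = b.card + 1 := card_insertNone b

omit [Fintype α] in
theorem ext1_inter (b c : Finset α) : ext1 b ∩ ext1 c = ext1 (b ∩ c) := by
  ext x
  rcases x with _ | x
  · simp [ext1]
  · simp [ext1]

omit [Fintype α] in
theorem ext1_inter_card (b : Finset α) (s : Finset (Option α)) :
    (ext1 b ∩ s).card = (b ∩ eraseNone s).card + if none ∈ s then 1 else 0 := by
  have h1 : (b ∩ eraseNone s).map Function.Embedding.some = (ext1 b ∩ s).erase none := by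
    ext x
    rcases x with _ | x
    · simp
    · simp [ext1, mem_eraseNone]
  have h2 : (b ∩ eraseNone s).card = ((ext1 b ∩ s).erase none).card := by rw [← h1, card_map]
  rw [h2]
  split_ifs with hn
  · have hm : none ∈ ext1 b ∩ s := mem_inter.2 ⟨by simp [ext1], hn⟩
    have h3 := card_pos.2 ⟨_, hm⟩
    rw [card_erase_of_mem hm]; omega
  · have hm : none ∉ ext1 b ∩ s := fun h => hn (mem_inter.1 h).2
    rw [erase_eq_of_notMem hm]; rfl

include hα hB

theorem fam4 : Fam (fam (spanC (ext1 '' B))) := by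
  have hbl : ∀ b ∈ ext1 '' B, b.card = 8 := by
    rintro _ ⟨b, hb, rfl⟩; rw [ext1_card, hB.1 b hb]
  refine golay_of_cov (by rw [Fintype.card_option, hα]) ?_ (fun b hb => by rw [hbl b hb]; norm_num) ?_ ?_
  · rintro _ ⟨b, hb, rfl⟩ _ ⟨c, hc, rfl⟩
    rw [ext1_inter, ext1_card]
    by_cases hbc : b = c
    · subst hbc
      rw [inter_self, hB.1 b hb]; norm_num
    · rcases inter4 hα hB hc hb hbc with h | h <;> omega
  · intro x
    obtain ⟨s, hs, hmin⟩ := exists_min_rep (spanC (ext1 '' B)) x
    refine ⟨s, ?_, hs⟩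
    -- representatives containing none
    have h0 : ∀ s : Finset (Option α), ind (symmDiff x s) ∈ spanC (ext1 '' B) →
        (∀ s' : Finset (Option α), ind (symmDiff x s') ∈ spanC (ext1 '' B) → s.card ≤ s'.card) → none ∈ s → s.card ≤ 4 := by
      intro s hs hmin hn
      by_contra hlt
      have hc : (eraseNone s).card = s.card - 1 := by
        rw [card_eraseNone_of_mem hn]
      obtain ⟨F, hFs, hF⟩ := exists_subset_card_eq (show 4 ≤ (eraseNone s).card by omega)
      obtain ⟨b, hb, hFb⟩ := exists_block hB (F := F) hF.le (by omega)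
      have h1 := hmin _ (shift_rep hs (ind_mem_spanC ⟨b, hb, rfl⟩))
      have h2 := card_symm s (ext1 b)
      rw [inter_comm, ext1_inter_card, if_pos hn, hbl _ ⟨b, hb, rfl⟩] at h2
      have h4 := card_le_card (subset_inter hFb hFs)
      omega
    by_cases hn : none ∈ s
    · exact h0 s hs hmin hn
    · by_contra hlt
      have hc : (eraseNone s).card = s.card := by
        rw [card_eraseNone_of_not_mem hn]
      obtain ⟨F, hFs, hF⟩ := exists_subset_card_eq (show 4 ≤ (eraseNone s).card by omega)
      obtain ⟨b, hb, hFb⟩ := exists_block hB (F := F) hF.le (by omega)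
      have h1 := shift_rep hs (ind_mem_spanC (G := ext1 '' B) ⟨b, hb, rfl⟩)
      have h2 := card_symm s (ext1 b)
      rw [inter_comm, ext1_inter_card, if_neg hn, hbl _ ⟨b, hb, rfl⟩] at h2
      have h4 := card_le_card (subset_inter hFb hFs)
      have h5 := h0 _ h1 (fun s' hs' => le_trans (by omega) (hmin s' hs')) (by
        rw [mem_symmDiff]; right; exact ⟨by simp [ext1], hn⟩)
      have h6 := hmin _ h1
      omega
  · intro s hne hs
    by_cases hn : none ∈ s
    · by_cases he : (eraseNone s).Nonempty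
      · obtain ⟨b, hb, h1⟩ := both_par hB (by omega) (by omega) he (by rw [card_eraseNone_of_mem hn]; omega) 0 (by norm_num)
        refine ⟨_, ⟨b, hb, rfl⟩, ?_⟩
        rw [ext1_inter_card, if_pos hn]
        omega
      · obtain ⟨b, hb, -⟩ := exists_block hB (F := ∅) (by simp) (by omega)
        refine ⟨_, ⟨b, hb, rfl⟩, ?_⟩
        rw [not_nonempty_iff_eq_empty] at he
        rw [ext1_inter_card, if_pos hn, he, inter_empty, card_empty]
        norm_num
    · have he : (eraseNone s).Nonempty := by
        obtain ⟨x, hx⟩ := hne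
        rcases x with _ | x
        · exact absurd hx hn
        · exact ⟨x, mem_eraseNone.2 hx⟩
      obtain ⟨b, hb, h1⟩ := both_par hB (by omega) (by omega) he (by rw [card_eraseNone_of_not_mem hn]; omega) 1 (by norm_num)
      refine ⟨_, ⟨b, hb, rfl⟩, ?_⟩
      rw [ext1_inter_card, if_neg hn]
      omega

theorem block4_iff (X : Finset α) : X ∈ B ↔ ind (ext1 X) ∈ spanC (ext1 '' B) ∧ X.card = 7 := by
  constructor
  · intro h; exact ⟨ind_mem_spanC ⟨X, h, rfl⟩, hB.1 X h⟩
  · rintro ⟨h1, h2⟩
    obtain ⟨F, hFX, hF⟩ := exists_subset_card_eq (show 4 ≤ X.card by omega)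
    obtain ⟨b, hb, hFb⟩ := exists_block hB (F := F) hF.le (by omega)
    have h3 : ext1 X = ext1 b := by
      apply (fam4 hα hB).octad_eq (mem_fam.2 h1) (mem_fam.2 (ind_mem_spanC ⟨b, hb, rfl⟩)) (by rw [ext1_card, h2])
        (by rw [ext1_card, hB.1 b hb])
      rw [ext1_inter, ext1_card]
      have := card_le_card (subset_inter hFX hFb)
      omega
    have h4 : X = b := insertNone.injective h3
    rw [h4]; exact hb

end s23

end Cfsg.Agent.Stn
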