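import Cfsg.Agent.Stn.CodeFam

/-!
# Steiner systems: counting
-/

set_option autoImplicit false

namespace Cfsg.Agent.Stn

open Finset

variable {α : Type*} [Fintype α] [DecidableEq α]

/-- the blocks as a finset -/
noncomputable def bl (B : Set (Finset α)) : Finset (Finset α) := by
  classical exact univ.filter (· ∈ B)

omit [DecidableEq α] in
theorem mem_bl {B : Set (Finset α)} {b : Finset α} : b ∈ bl B ↔ b ∈ B := by
  classical
  rw [bl, mem_filter]
  exact ⟨fun h => h.2, fun h => ⟨mem_univ _, h⟩⟩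

omit [DecidableEq α] in
theorem coe_bl (B : Set (Finset α)) : (bl B : Set (Finset α)) = B := by
  ext b; rw [mem_coe, mem_bl]

omit [DecidableEq α] in
theorem ncard_bl (B : Set (Finset α)) : B.ncard = (bl B).card := by
  rw [← Set.ncard_coe_finset, coe_bl]

omit [Fintype α] in
/-- sets of size t between Y and b -/
theorem card_between' {Y b : Finset α} (hY : Y ⊆ b) {t : ℕ} (ht : Y.card ≤ t) :
    ((b.powersetCard t).filter fun T => Y ⊆ T).card = (b.card - Y.card).choose (t - Y.card) := by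
  rw [← card_sdiff_of_subset hY, ← card_powersetCard]
  apply card_bij' (fun T _ => T \ Y) (fun T _ => T ∪ Y)
  · intro T hT
    rw [mem_filter, mem_powersetCard] at hT
    rw [mem_powersetCard, card_sdiff_of_subset hT.2, hT.1.2]
    exact ⟨sdiff_subset_sdiff hT.1.1 Subset.rfl, rfl⟩
  · intro T hT
    rw [mem_powersetCard] at hT
    rw [mem_filter, mem_powersetCard]
    refine ⟨⟨union_subset (hT.1.trans sdiff_subset) hY, ?_⟩, subset_union_right⟩
    rw [card_union_of_disjoint, hT.2]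
    · omega
    · rw [disjoint_left]
      intro x hx hxY
      exact (mem_sdiff.1 (hT.1 hx)).2 hxY
  · intro T hT
    rw [mem_filter] at hT
    exact sdiff_union_of_subset hT.2
  · intro T hT
    rw [mem_powersetCard] at hT
    ext x
    rw [mem_sdiff, mem_union]
    constructor
    · rintro ⟨h1 | h1, h2⟩
      · exact h1
      · exact absurd h1 h2
    · intro h1
      exact ⟨Or.inl h1, (mem_sdiff.1 (hT.1 h1)).2⟩

section
variable {t k : ℕ} {B : Set (Finset α)} (hB : IsSteinerSystem t k B)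
include hB

theorem lam {Y : Finset α} (hY : Y.card ≤ t) :
    ((bl B).filter fun b => Y ⊆ b).card * (k - Y.card).choose (t - Y.card) = (Fintype.card α - Y.card).choose (t - Y.card) := by
  have h := sum_card_bipartiteAbove_eq_sum_card_bipartiteBelow (s := (bl B).filter fun b => Y ⊆ b)
    (t := ((univ : Finset α).powersetCard t).filter fun T => Y ⊆ T) (fun b T => T ⊆ b)
  have h1 : ∀ b ∈ (bl B).filter fun b => Y ⊆ b,
      (bipartiteAbove (fun b T => T ⊆ b) (((univ : Finset α).powersetCard t).filter fun T => Y ⊆ T) b).card =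
        (k - Y.card).choose (t - Y.card) := by
    intro b hb
    rw [mem_filter, mem_bl] at hb
    rw [← hB.1 b hb.1, ← card_between' hb.2 hY]
    congr 1
    ext T
    rw [bipartiteAbove, mem_filter, mem_filter, mem_filter, mem_powersetCard, mem_powersetCard]
    have := subset_univ T
    tauto
  have h2 : ∀ T ∈ ((univ : Finset α).powersetCard t).filter fun T => Y ⊆ T,
      (bipartiteBelow (fun b T => T ⊆ b) ((bl B).filter fun b => Y ⊆ b) T).card = 1 := by
    intro T hT
    rw [mem_filter, mem_powersetCard] at hT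
    obtain ⟨b, hb, hu⟩ := hB.2 T hT.1.2
    rw [card_eq_one]
    refine ⟨b, ?_⟩
    ext c
    rw [bipartiteBelow, mem_filter, mem_filter, mem_bl, mem_singleton]
    constructor
    · intro hc; exact hu c ⟨hc.1.1, hc.2⟩
    · rintro rfl; exact ⟨⟨hb.1, hT.2.trans hb.2⟩, hb.2⟩
  rw [sum_congr rfl h1, sum_congr rfl h2, sum_const, sum_const, smul_eq_mul, smul_eq_mul, mul_one,
    card_between' (subset_univ Y) hY, card_univ] at h
  exact h

theorem exists_block {F : Finset α} (hF : F.card ≤ t) (ht : t ≤ Fintype.card α) : ∃ b ∈ B, F ⊆ b := by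
  obtain ⟨T, hFT, -, hT⟩ := exists_subsuperset_card_eq (subset_univ F) hF (by rw [card_univ]; exact ht)
  obtain ⟨b, hb, -⟩ := hB.2 T hT
  exact ⟨b, hb.1, hFT.trans hb.2⟩

theorem block_eq {b c F : Finset α} (hb : b ∈ B) (hc : c ∈ B) (hFb : F ⊆ b) (hFc : F ⊆ c) (hF : t ≤ F.card) : b = c := by
  obtain ⟨T, hTF, hT⟩ := exists_subset_card_eq hF
  exact (hB.2 T hT).unique ⟨hb, hTF.trans hFb⟩ ⟨hc, hTF.trans hFc⟩

theorem inter_lt {b c : Finset α} (hb : b ∈ B) (hc : c ∈ B) (hbc : b ≠ c) : (b ∩ c).card < t := by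
  by_contra h
  exact hbc (block_eq hB hb hc inter_subset_left inter_subset_right (by omega))

/-- both parities of intersections with small sets occur -/
theorem both_par (ht : t ≤ Fintype.card α) (hk : k < Fintype.card α) {s : Finset α} (hs : s.Nonempty) (hst : s.card ≤ t)
    (ε : ℕ) (hε : ε < 2) : ∃ b ∈ B, (b ∩ s).card % 2 = ε := by
  by_contra hn
  push Not at hn
  obtain ⟨F, hsF, -, hF⟩ := exists_subsuperset_card_eq (subset_univ s) hst (by rw [card_univ]; exact ht)
  obtain ⟨b0, hb0, hFb0⟩ := exists_block hB (F := F) (by omega) ht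
  have h0 := hn b0 hb0
  rw [inter_eq_right.2 (hsF.trans hFb0)] at h0
  obtain ⟨p, hp⟩ := hs
  have hall : ∀ v, v ∈ b0 := by
    intro v
    by_cases hv : v ∈ F
    · exact hFb0 hv
    · have hF' : (insert v (F.erase p)).card = t := by
        rw [card_insert_of_notMem, card_erase_of_mem (hsF hp), hF]
        · have : 0 < F.card := card_pos.2 ⟨p, hsF hp⟩
          omega
        · rw [mem_erase]; exact fun h => hv h.2
      obtain ⟨b, hb, hFb⟩ := exists_block hB (F := insert v (F.erase p)) hF'.le ht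
      have h1 : s.erase p ⊆ b ∩ s := by
        intro x hx
        rw [mem_erase] at hx
        rw [mem_inter]
        exact ⟨hFb (mem_insert_of_mem (mem_erase.2 ⟨hx.1, hsF hx.2⟩)), hx.2⟩
      have h2 := card_le_card h1
      rw [card_erase_of_mem hp] at h2
      have h3 : (b ∩ s).card ≤ s.card := card_le_card inter_subset_right
      have h4 := hn b hb
      have h5 : b ∩ s = s := eq_of_subset_of_card_le inter_subset_right (by omega)
      have hpb : p ∈ b := (inter_eq_right.1 h5) hp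
      have h6 : F ⊆ b := by
        intro x hx
        by_cases hxp : x = p
        · rw [hxp]; exact hpb
        · exact hFb (mem_insert_of_mem (mem_erase.2 ⟨hxp, hx⟩))
      have h7 : b = b0 := block_eq hB hb hb0 h6 hFb0 hF.ge
      rw [← h7]
      exact hFb (mem_insert_self _ _)
  have h8 : b0 = univ := eq_univ_of_forall hall
  have h9 := hB.1 b0 hb0
  rw [h8, card_univ] at h9
  omega

omit hB in
/-- moments -/
theorem moment (C : Finset (Finset α)) (X : Finset α) (j : ℕ) :
    ∑ b ∈ C, (b ∩ X).card.choose j = ∑ Y ∈ X.powersetCard j, (C.filter fun b => Y ⊆ b).card := by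
  have h := sum_card_bipartiteAbove_eq_sum_card_bipartiteBelow (s := C) (t := X.powersetCard j) (fun b Y => Y ⊆ b)
  have h1 : ∀ b ∈ C, (bipartiteAbove (fun b Y => Y ⊆ b) (X.powersetCard j) b).card = (b ∩ X).card.choose j := by
    intro b _
    rw [← card_powersetCard]
    congr 1
    ext Y
    rw [bipartiteAbove, mem_filter, mem_powersetCard, mem_powersetCard, subset_inter_iff]
    tauto
  rw [sum_congr rfl h1] at h
  exact h

/-- moments over the other blocks -/
theorem moment_block {O : Finset α} (hO : O ∈ B) {j l : ℕ} (hj : j ≤ t)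
    (hl : ∀ Y : Finset α, Y.card = j → ((bl B).filter fun b => Y ⊆ b).card = l + 1) :
    ∑ b ∈ (bl B).erase O, (b ∩ O).card.choose j = k.choose j * l := by
  rw [moment]
  have : ∀ Y ∈ O.powersetCard j, (((bl B).erase O).filter fun b => Y ⊆ b).card = l := by
    intro Y hY
    rw [mem_powersetCard] at hY
    have h1 : (((bl B).erase O).filter fun b => Y ⊆ b) = ((bl B).filter fun b => Y ⊆ b).erase O := by
      ext b
      rw [mem_filter, mem_erase, mem_erase, mem_filter]
      tauto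
    rw [h1, card_erase_of_mem, hl Y hY.2]
    · rfl
    · rw [mem_filter, mem_bl]; exact ⟨hO, hY.1⟩
  rw [sum_congr rfl this, sum_const, card_powersetCard, hB.1 O hO, smul_eq_mul]

end

section s24
variable {B : Set (Finset α)} (hα : Fintype.card α = 24) (hB : IsSteinerSystem 5 8 B)
include hα hB

theorem lam5 (Y : Finset α) : (Y.card = 5 → ((bl B).filter fun b => Y ⊆ b).card = 1) ∧
    (Y.card = 4 → ((bl B).filter fun b => Y ⊆ b).card = 5) ∧
    (Y.card = 3 → ((bl B).filter fun b => Y ⊆ b).card = 21) ∧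
    (Y.card = 2 → ((bl B).filter fun b => Y ⊆ b).card = 77) ∧
    (Y.card = 1 → ((bl B).filter fun b => Y ⊆ b).card = 253) ∧
    (Y.card = 0 → ((bl B).filter fun b => Y ⊆ b).card = 759) := by
  refine ⟨fun h => ?_, fun h => ?_, fun h => ?_, fun h => ?_, fun h => ?_, fun h => ?_⟩ <;>
  · have := lam hB (Y := Y) (by omega)
    rw [hα, h] at this
    norm_num [Nat.choose] at this
    omega

theorem moments5 {O : Finset α} (hO : O ∈ B) :
    (∑ b ∈ (bl B).erase O, (b ∩ O).card.choose 4 = 280) ∧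
    (∑ b ∈ (bl B).erase O, (b ∩ O).card.choose 3 = 1120) ∧
    (∑ b ∈ (bl B).erase O, (b ∩ O).card.choose 2 = 2128) ∧
    (∑ b ∈ (bl B).erase O, (b ∩ O).card.choose 1 = 2016) ∧
    (∑ b ∈ (bl B).erase O, (b ∩ O).card.choose 0 = 758) := by
  refine ⟨?_, ?_, ?_, ?_, ?_⟩
  · rw [moment_block hB hO (l := 4) (by norm_num) (fun Y hY => (lam5 hα hB Y).2.1 hY)]; rfl
  · rw [moment_block hB hO (l := 20) (by norm_num) (fun Y hY => (lam5 hα hB Y).2.2.1 hY)]; rfl
  · rw [moment_block hB hO (l := 76) (by norm_num) (fun Y hY => (lam5 hα hB Y).2.2.2.1 hY)]; rfl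
  · rw [moment_block hB hO (l := 252) (by norm_num) (fun Y hY => (lam5 hα hB Y).2.2.2.2.1 hY)]; rfl
  · rw [moment_block hB hO (l := 758) (by norm_num) (fun Y hY => (lam5 hα hB Y).2.2.2.2.2 hY)]; rfl

theorem inter5 {O b : Finset α} (hO : O ∈ B) (hb : b ∈ B) (hne : b ≠ O) :
    (b ∩ O).card = 0 ∨ (b ∩ O).card = 2 ∨ (b ∩ O).card = 4 := by
  obtain ⟨m4, m3, m2, m1, m0⟩ := moments5 hα hB hO
  have key : ∀ i < 5, i.choose 1 + 4 * i.choose 3 = (if i = 1 ∨ i = 3 then 1 else 0) + 2 * i.choose 2 + 8 * i.choose 4 := by decide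
  have h1 : ∑ b ∈ (bl B).erase O, ((b ∩ O).card.choose 1 + 4 * (b ∩ O).card.choose 3) =
      ∑ b ∈ (bl B).erase O, ((if (b ∩ O).card = 1 ∨ (b ∩ O).card = 3 then 1 else 0) + 2 * (b ∩ O).card.choose 2 + 8 * (b ∩ O).card.choose 4) := by
    apply sum_congr rfl
    intro c hc
    rw [mem_erase, mem_bl] at hc
    exact key _ (inter_lt hB hc.2 hO hc.1)
  rw [sum_add_distrib, sum_add_distrib, sum_add_distrib, ← mul_sum, ← mul_sum, ← mul_sum, m1, m2, m3, m4] at h1
  have h2 : ∑ b ∈ (bl B).erase O, (if (b ∩ O).card = 1 ∨ (b ∩ O).card = 3 then 1 else 0) = 0 := by omega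
  rw [sum_eq_zero_iff] at h2
  have h3 := h2 b (mem_erase.2 ⟨hne, mem_bl.2 hb⟩)
  have h4 := inter_lt hB hb hO hne
  have h5 : ¬ ((b ∩ O).card = 1 ∨ (b ∩ O).card = 3) := by
    intro h; rw [if_pos h] at h3; omega
  omega

theorem disj5 {O : Finset α} (hO : O ∈ B) : {c : Finset α | c ∈ B ∧ Disjoint O c}.ncard = 30 := by
  obtain ⟨m4, m3, m2, m1, m0⟩ := moments5 hα hB hO
  have key : ∀ i < 5, (if i = 0 then 1 else 0) + i.choose 1 + i.choose 3 = i.choose 0 + i.choose 2 + i.choose 4 := by decide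
  have h1 : ∑ b ∈ (bl B).erase O, ((if (b ∩ O).card = 0 then 1 else 0) + (b ∩ O).card.choose 1 + (b ∩ O).card.choose 3) =
      ∑ b ∈ (bl B).erase O, ((b ∩ O).card.choose 0 + (b ∩ O).card.choose 2 + (b ∩ O).card.choose 4) := by
    apply sum_congr rfl
    intro c hc
    rw [mem_erase, mem_bl] at hc
    exact key _ (inter_lt hB hc.2 hO hc.1)
  rw [sum_add_distrib, sum_add_distrib, sum_add_distrib, sum_add_distrib, m1, m2, m3, m4, m0, ← card_filter] at h1
  have h2 : {c : Finset α | c ∈ B ∧ Disjoint O c} = (((bl B).erase O).filter fun b => (b ∩ O).card = 0 : Finset (Finset α)) := by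
    ext c
    rw [mem_coe, mem_filter, mem_erase, mem_bl, card_eq_zero, ← disjoint_iff_inter_eq_empty, disjoint_comm]
    constructor
    · rintro ⟨h5, h6⟩
      refine ⟨⟨?_, h5⟩, h6⟩
      rintro rfl
      have h7 := hB.1 c h5
      rw [disjoint_self_iff_empty] at h6
      rw [h6, card_empty] at h7
      omega
    · rintro ⟨⟨h5, h6⟩, h7⟩; exact ⟨h6, h7⟩
  rw [h2, Set.ncard_coe_finset]
  omega

end s24

section s23
variable {B : Set (Finset α)} (hα : Fintype.card α = 23) (hB : IsSteinerSystem 4 7 B)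
include hα hB

theorem lam4 (Y : Finset α) : (Y.card = 4 → ((bl B).filter fun b => Y ⊆ b).card = 1) ∧
    (Y.card = 3 → ((bl B).filter fun b => Y ⊆ b).card = 5) ∧
    (Y.card = 2 → ((bl B).filter fun b => Y ⊆ b).card = 21) ∧
    (Y.card = 1 → ((bl B).filter fun b => Y ⊆ b).card = 77) ∧
    (Y.card = 0 → ((bl B).filter fun b => Y ⊆ b).card = 253) := by
  refine ⟨fun h => ?_, fun h => ?_, fun h => ?_, fun h => ?_, fun h => ?_⟩ <;>
  · have := lam hB (Y := Y) (by omega)
    rw [hα, h] at this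
    norm_num [Nat.choose] at this
    omega

theorem inter4 {O b : Finset α} (hO : O ∈ B) (hb : b ∈ B) (hne : b ≠ O) :
    (b ∩ O).card = 1 ∨ (b ∩ O).card = 3 := by
  have m3 : ∑ b ∈ (bl B).erase O, (b ∩ O).card.choose 3 = 140 := by
    rw [moment_block hB hO (l := 4) (by norm_num) (fun Y hY => (lam4 hα hB Y).2.1 hY)]; rfl
  have m2 : ∑ b ∈ (bl B).erase O, (b ∩ O).card.choose 2 = 420 := by
    rw [moment_block hB hO (l := 20) (by norm_num) (fun Y hY => (lam4 hα hB Y).2.2.1 hY)]; rfl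
  have m1 : ∑ b ∈ (bl B).erase O, (b ∩ O).card.choose 1 = 532 := by
    rw [moment_block hB hO (l := 76) (by norm_num) (fun Y hY => (lam4 hα hB Y).2.2.2.1 hY)]; rfl
  have m0 : ∑ b ∈ (bl B).erase O, (b ∩ O).card.choose 0 = 252 := by
    rw [moment_block hB hO (l := 252) (by norm_num) (fun Y hY => (lam4 hα hB Y).2.2.2.2 hY)]; rfl
  have key : ∀ i < 4, (if i = 0 ∨ i = 2 then 1 else 0) + i.choose 1 + 4 * i.choose 3 = i.choose 0 + 2 * i.choose 2 := by decide
  have h1 : ∑ b ∈ (bl B).erase O, ((if (b ∩ O).card = 0 ∨ (b ∩ O).card = 2 then 1 else 0) + (b ∩ O).card.choose 1 + 4 * (b ∩ O).card.choose 3) =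
      ∑ b ∈ (bl B).erase O, ((b ∩ O).card.choose 0 + 2 * (b ∩ O).card.choose 2) := by
    apply sum_congr rfl
    intro c hc
    rw [mem_erase, mem_bl] at hc
    exact key _ (inter_lt hB hc.2 hO hc.1)
  rw [sum_add_distrib, sum_add_distrib, sum_add_distrib, ← mul_sum, ← mul_sum, m0, m1, m2, m3] at h1
  have h2 : ∑ b ∈ (bl B).erase O, (if (b ∩ O).card = 0 ∨ (b ∩ O).card = 2 then 1 else 0) = 0 := by omega
  rw [sum_eq_zero_iff] at h2
  have h3 := h2 b (mem_erase.2 ⟨hne, mem_bl.2 hb⟩)
  have h4 := inter_lt hB hb hO hne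
  have h5 : ¬ ((b ∩ O).card = 0 ∨ (b ∩ O).card = 2) := by
    intro h; rw [if_pos h] at h3; omega
  omega

end s23

section s22
variable {B : Set (Finset α)} (hα : Fintype.card α = 22) (hB : IsSteinerSystem 3 6 B)
include hα hB

theorem lam3 (Y : Finset α) : (Y.card = 3 → ((bl B).filter fun b => Y ⊆ b).card = 1) ∧
    (Y.card = 2 → ((bl B).filter fun b => Y ⊆ b).card = 5) ∧
    (Y.card = 1 → ((bl B).filter fun b => Y ⊆ b).card = 21) ∧
    (Y.card = 0 → ((bl B).filter fun b => Y ⊆ b).card = 77) := by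
  refine ⟨fun h => ?_, fun h => ?_, fun h => ?_, fun h => ?_⟩ <;>
  · have := lam hB (Y := Y) (by omega)
    rw [hα, h] at this
    norm_num [Nat.choose] at this
    omega

theorem inter3 {O b : Finset α} (hO : O ∈ B) (hb : b ∈ B) (hne : b ≠ O) :
    (b ∩ O).card = 0 ∨ (b ∩ O).card = 2 := by
  have m2 : ∑ b ∈ (bl B).erase O, (b ∩ O).card.choose 2 = 60 := by
    rw [moment_block hB hO (l := 4) (by norm_num) (fun Y hY => (lam3 hα hB Y).2.1 hY)]; rfl
  have m1 : ∑ b ∈ (bl B).erase O, (b ∩ O).card.choose 1 = 120 := by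
    rw [moment_block hB hO (l := 20) (by norm_num) (fun Y hY => (lam3 hα hB Y).2.2.1 hY)]; rfl
  have key : ∀ i < 3, i.choose 1 = (if i = 1 then 1 else 0) + 2 * i.choose 2 := by decide
  have h1 : ∑ b ∈ (bl B).erase O, ((b ∩ O).card.choose 1) =
      ∑ b ∈ (bl B).erase O, ((if (b ∩ O).card = 1 then 1 else 0) + 2 * (b ∩ O).card.choose 2) := by
    apply sum_congr rfl
    intro c hc
    rw [mem_erase, mem_bl] at hc
    exact key _ (inter_lt hB hc.2 hO hc.1)
  rw [sum_add_distrib, ← mul_sum, m1, m2] at h1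
  have h2 : ∑ b ∈ (bl B).erase O, (if (b ∩ O).card = 1 then 1 else 0) = 0 := by omega
  rw [sum_eq_zero_iff] at h2
  have h3 := h2 b (mem_erase.2 ⟨hne, mem_bl.2 hb⟩)
  have h4 := inter_lt hB hb hO hne
  have h5 : ¬ ((b ∩ O).card = 1) := by
    intro h; rw [if_pos h] at h3; omega
  omega

end s22

end Cfsg.Agent.Stn
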